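import Mathlib

/-!
# Deduction orders for the edge cocycle

Each pair is a relator and a start vertex.
-/

set_option autoImplicit false

namespace Cfsg.Agent.HeLocal.Cz

def splitSteps : List (ℕ × ℕ) := [
  (0, 0), (0, 2), (0, 3), (0, 5), (0, 7), (0, 8), (0, 10), (0, 13), (0, 14), (0, 16), (0, 17), (0, 18), (0, 21), (0, 22),
  (0, 25), (0, 27), (0, 28), (0, 29), (0, 32), (0, 33), (0, 34), (0, 36), (0, 39), (0, 41), (0, 42), (0, 46), (0, 48), (0, 49),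
  (0, 51), (0, 52), (0, 53), (0, 55), (0, 59), (0, 60), (0, 61), (0, 63), (0, 68), (0, 71), (0, 73), (0, 75), (0, 78), (0, 81),
  (0, 83), (0, 85), (0, 86), (0, 87), (0, 89), (0, 92), (0, 95), (0, 96), (0, 98), (0, 101), (0, 105), (0, 108), (0, 110), (0, 111),
  (0, 112), (0, 114), (0, 116), (0, 119), (0, 121), (0, 122), (0, 123), (0, 125), (0, 126), (0, 128), (0, 134), (0, 135), (0, 137), (0, 146),
  (0, 147), (0, 149), (0, 155), (0, 162), (1, 0), (1, 1), (1, 4), (1, 6), (1, 9), (1, 11), (1, 12), (1, 15), (1, 19), (1, 20),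
  (1, 23), (1, 24), (1, 26), (1, 30), (1, 31), (1, 37), (1, 38), (1, 40), (1, 44), (1, 45), (1, 47), (1, 56), (1, 57), (1, 64),
  (1, 65), (1, 66), (1, 67), (1, 69), (1, 76), (1, 77), (1, 79), (1, 90), (1, 91), (1, 93), (1, 99), (1, 100), (1, 102), (1, 104),
  (1, 106), (1, 115), (2, 0), (2, 1), (2, 4), (2, 6), (2, 12), (2, 15), (2, 20), (2, 24), (2, 26), (3, 0), (3, 1), (3, 2),
  (3, 3), (3, 5), (3, 7), (3, 8), (3, 13), (3, 16), (3, 29), (3, 34), (3, 107), (3, 162), (0, 43), (0, 103), (0, 132), (0, 144),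
  (1, 35), (1, 54), (1, 62), (1, 88), (1, 97), (1, 113), (1, 124), (1, 127), (1, 133), (1, 158), (2, 31), (2, 38), (2, 40), (2, 45),
  (2, 50), (2, 57), (2, 82), (2, 104), (2, 120), (3, 27), (3, 32), (3, 36), (3, 53), (3, 68), (3, 69), (3, 70), (3, 80), (3, 96),
  (3, 105)]

def badSteps : List (ℕ × ℕ) := [
  (0, 0), (0, 2), (0, 3), (0, 5), (0, 7), (0, 8), (0, 10), (0, 13), (0, 14), (0, 16), (0, 17), (0, 18), (0, 21), (0, 22),
  (0, 25), (0, 27), (0, 28), (0, 29), (0, 32), (0, 33), (0, 34), (0, 36), (0, 39), (0, 41), (0, 42), (0, 46), (0, 48), (0, 49),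
  (0, 51), (0, 52), (0, 53), (0, 55), (0, 59), (0, 60), (0, 61), (0, 63), (0, 68), (0, 71), (0, 73), (0, 75), (0, 78), (0, 81),
  (0, 83), (0, 85), (0, 86), (0, 87), (0, 89), (0, 92), (0, 95), (0, 96), (0, 98), (0, 101), (0, 105), (0, 108), (0, 110), (0, 111),
  (0, 112), (0, 114), (0, 116), (0, 119), (0, 121), (0, 122), (0, 123), (0, 125), (0, 126), (0, 128), (0, 134), (0, 135), (0, 137), (0, 146),
  (0, 147), (0, 149), (0, 155), (0, 162), (1, 0), (1, 1), (1, 4), (1, 6), (1, 9), (1, 11), (1, 12), (1, 15), (1, 19), (1, 20),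
  (1, 23), (1, 24), (1, 26), (1, 30), (1, 31), (1, 37), (1, 38), (1, 40), (1, 44), (1, 45), (1, 47), (1, 56), (1, 57), (1, 64),
  (1, 65), (1, 66), (1, 67), (1, 69), (1, 76), (1, 77), (1, 79), (1, 90), (1, 91), (1, 93), (1, 99), (1, 100), (1, 102), (1, 104),
  (1, 106), (1, 115), (2, 0), (2, 1), (2, 4), (2, 6), (2, 12), (2, 15), (2, 20), (2, 24), (2, 26), (3, 0), (3, 1), (3, 2),
  (3, 3), (3, 5), (3, 7), (3, 8), (3, 13), (3, 16), (3, 29), (3, 34), (3, 107), (3, 162), (0, 43), (0, 103), (0, 132), (0, 144),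
  (1, 35), (1, 54), (1, 62), (1, 88), (1, 97), (1, 113), (1, 124), (1, 127), (1, 133), (1, 158), (2, 31), (2, 38), (2, 40), (2, 45),
  (2, 50), (2, 57), (2, 82), (2, 104), (2, 120), (3, 27), (3, 32), (3, 36), (3, 43)]

def badSteps2 : List (ℕ × ℕ) := [
  (0, 0), (0, 2), (0, 3), (0, 5), (0, 7), (0, 8), (0, 10), (0, 13), (0, 14), (0, 16), (0, 17), (0, 18), (0, 21), (0, 22),
  (0, 25), (0, 27), (0, 28), (0, 29), (0, 32), (0, 33), (0, 34), (0, 36), (0, 39), (0, 41), (0, 42), (0, 46), (0, 48), (0, 49),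
  (0, 51), (0, 52), (0, 53), (0, 55), (0, 59), (0, 60), (0, 61), (0, 63), (0, 68), (0, 71), (0, 73), (0, 75), (0, 78), (0, 81),
  (0, 83), (0, 85), (0, 86), (0, 87), (0, 89), (0, 92), (0, 95), (0, 96), (0, 98), (0, 101), (0, 105), (0, 108), (0, 110), (0, 111),
  (0, 112), (0, 114), (0, 116), (0, 119), (0, 121), (0, 122), (0, 123), (0, 125), (0, 126), (0, 128), (0, 134), (0, 135), (0, 137), (0, 146),
  (0, 147), (0, 149), (0, 155), (0, 162), (1, 0), (1, 1), (1, 4), (1, 6), (1, 9), (1, 11), (1, 12), (1, 15), (1, 19), (1, 20),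
  (1, 23), (1, 24), (1, 26), (1, 30), (1, 31), (1, 37), (1, 38), (1, 40), (1, 44), (1, 45), (1, 47), (1, 56), (1, 57), (1, 64),
  (1, 65), (1, 66), (1, 67), (1, 69), (1, 76), (1, 77), (1, 79), (1, 90), (1, 91), (1, 93), (1, 99), (1, 100), (1, 102), (1, 104),
  (1, 106), (1, 115), (2, 0), (2, 1), (2, 4), (2, 6), (2, 12), (2, 15), (2, 20), (2, 24), (2, 26), (3, 0), (3, 1), (3, 2),
  (3, 3), (3, 5), (3, 7), (3, 8), (3, 13), (3, 16), (3, 29), (3, 34), (3, 107), (3, 162), (0, 43), (0, 103), (0, 132), (0, 144),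
  (1, 35), (1, 54), (1, 62), (1, 88), (1, 97), (1, 113), (1, 124), (1, 127), (1, 133), (1, 158), (2, 31), (2, 38), (2, 40), (2, 45),
  (2, 50), (2, 57), (2, 82), (2, 104), (2, 120), (3, 27), (3, 32), (3, 36), (3, 43)]

def twistSteps : List (ℕ × ℕ) := [
  (0, 0), (0, 2), (0, 3), (0, 5), (0, 7), (0, 8), (0, 10), (0, 13), (0, 14), (0, 16), (0, 17), (0, 18), (0, 21), (0, 22),
  (0, 25), (0, 27), (0, 28), (0, 29), (0, 32), (0, 33), (0, 34), (0, 36), (0, 39), (0, 41), (0, 42), (0, 46), (0, 48), (0, 49),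
  (0, 51), (0, 52), (0, 53), (0, 55), (0, 59), (0, 60), (0, 61), (0, 63), (0, 68), (0, 71), (0, 73), (0, 75), (0, 78), (0, 81),
  (0, 83), (0, 85), (0, 86), (0, 87), (0, 89), (0, 92), (0, 95), (0, 96), (0, 98), (0, 101), (0, 105), (0, 108), (0, 110), (0, 111),
  (0, 112), (0, 114), (0, 116), (0, 119), (0, 121), (0, 122), (0, 123), (0, 125), (0, 126), (0, 128), (0, 134), (0, 135), (0, 137), (0, 146),
  (0, 147), (0, 149), (0, 155), (0, 162), (1, 0), (1, 1), (1, 4), (1, 6), (1, 9), (1, 11), (1, 12), (1, 15), (1, 19), (1, 20),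
  (1, 23), (1, 24), (1, 26), (1, 30), (1, 31), (1, 37), (1, 38), (1, 40), (1, 44), (1, 45), (1, 47), (1, 56), (1, 57), (1, 64),
  (1, 65), (1, 66), (1, 67), (1, 69), (1, 76), (1, 77), (1, 79), (1, 90), (1, 91), (1, 93), (1, 99), (1, 100), (1, 102), (1, 104),
  (1, 106), (1, 115), (2, 0), (2, 1), (2, 4), (2, 6), (2, 12), (2, 15), (2, 20), (2, 24), (2, 26), (3, 0), (3, 1), (3, 2),
  (3, 3), (3, 5), (3, 7), (3, 8), (3, 13), (3, 16), (3, 29), (3, 34), (3, 107), (3, 162), (0, 43), (0, 103), (0, 132), (0, 144),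
  (1, 35), (1, 54), (1, 62), (1, 88), (1, 97), (1, 113), (1, 124), (1, 127), (1, 133), (1, 158), (2, 31), (2, 38), (2, 40), (2, 45),
  (2, 50), (2, 57), (2, 82), (2, 104), (2, 120), (3, 27), (3, 32), (3, 36), (3, 53), (3, 68), (3, 69), (3, 70), (3, 80), (3, 96),
  (3, 105)]

end Cfsg.Agent.HeLocal.Cz
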