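import Cfsg.Agent.Lib.HeLocal.Cz.Twist
import Cfsg.Agent.Lib.HeLocal.Cz.Steps

/-!
The edge cocycle of a central extension of `L₃(2)` is zero or the tabulated one.
-/

set_option autoImplicit false

namespace Cfsg.Agent.HeLocal.Cz

/-- The values of the relators. -/
def csOf (a c : Bool) : List Bool := [a, false, false, c]

theorem run_split : (run (csOf false false) splitSteps).1 = 2 ^ 336 - 1 ∧
    (run (csOf false false) splitSteps).2.1 = 0 := by decide +kernel

theorem run_twist : (run (csOf true true) twistSteps).1 = 2 ^ 336 - 1 ∧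
    (run (csOf true true) twistSteps).2.1 = edgeData := by decide +kernel

theorem run_bad : (run (csOf false true) badSteps).2.2 = true ∧ (run (csOf true false) badSteps2).2.2 = true := by
  decide +kernel

set_option exponentiation.threshold 400 in
theorem full_mask : ∀ i < 336, bit' (2 ^ 336 - 1) i = true := by decide +kernel

theorem tree_bits : ∀ i < 336, bit' treeMask i = true → ∃ k < 168, k ≠ 0 ∧ i = 2 * par k + b2n (gen k) := by
  decide +kernel

theorem treeMask_lt : treeMask < 2 ^ 336 := by decide +kernel

attribute [local irreducible] treeMask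

/-- The edge values are determined up to the split and twisted alternatives. -/
theorem edge_cases (e : ℕ → Bool) (a c : Bool)
    (htree : ∀ k < 168, k ≠ 0 → e (2 * par k + b2n (gen k)) = false)
    (hrel : ∀ r < 4, ∀ l < 168, (rels.getD r []).foldl (fun w g => lm w (gidx g)) l = l →
      psum e l (rels.getD r []) = (csOf a c).getD r false) :
    ∃ t, ∀ l < 168, ∀ g, e (2 * l + b2n g) = edge t l g := by
  have h0 : Good e (treeMask, 0, false) := by
    have hz : ∀ i, bit' 0 i = false := fun i => by rw [bit'_eq, Nat.zero_testBit]
    refine ⟨fun i hi => ?_, fun i _ => hz i, rfl⟩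
    have hlt : i < 336 := by
      by_contra hge
      have h1 : treeMask.testBit i = false := Nat.testBit_lt_two_pow
        (treeMask_lt.trans_le (Nat.pow_le_pow_right (by norm_num) (not_lt.1 hge)))
      simp only [bit'_eq, h1] at hi
      exact Bool.false_ne_true hi
    obtain ⟨k, hk, hk0, rfl⟩ := tree_bits i hlt hi
    exact (hz _).trans (htree k hk hk0).symm
  have hlt : ∀ l < 168, ∀ g, 2 * l + b2n g < 336 := fun l hl g => by cases g <;> simp [b2n] <;> omega
  cases a <;> cases c
  · refine ⟨false, fun l hl g => ?_⟩
    obtain ⟨h1, -, -⟩ := run_good e _ hrel h0 splitSteps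
    have := h1 (2 * l + b2n g) (by rw [run_split.1]; exact full_mask _ (hlt l hl g))
    rw [run_split.2, bit'_eq, Nat.zero_testBit] at this
    exact this.symm
  · exact absurd ((run_good e _ hrel h0 badSteps).2.2) (by rw [run_bad.1]; decide)
  · exact absurd ((run_good e _ hrel h0 badSteps2).2.2) (by rw [run_bad.2]; decide)
  · refine ⟨true, fun l hl g => ?_⟩
    obtain ⟨h1, -, -⟩ := run_good e _ hrel h0 twistSteps
    have := h1 (2 * l + b2n g) (by rw [run_twist.1]; exact full_mask _ (hlt l hl g))
    rw [run_twist.2] at this
    exact this.symm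

theorem tw_step : ∀ t : Bool, ∀ l < 168, ∀ k < 168, k ≠ 0 →
    tw t l k = (tw t l (par k) ^^ edge t (lm l (par k)) (gen k)) := by
  decide +kernel

theorem tw_zero : ∀ t : Bool, ∀ l < 168, tw t l 0 = false := by decide +kernel

end Cfsg.Agent.HeLocal.Cz
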