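import Cfsg.Agent.Lib.HeLocal.Cz.Coord
import Cfsg.Agent.Lib.HeLocal.Cz.Edges

/-!
`2^{1+6}_+ . L₃(2)` with faithful action is one of the four models.
-/

set_option autoImplicit false

namespace Cfsg.Agent.HeLocal.Cz

open Subgroup Cfsg.Agent.LargeExtra Cfsg.Agent.LargeExtra.ExtForm

theorem aut_mul (k : Bool) {l m : ℕ} (hl : l < 168) (hm : m < 168) :
    aut k ⟨l, hl⟩ * aut k ⟨m, hm⟩ = aut k ⟨lm l m, lm_range hl hm⟩ :=
  MulEquiv.ext fun x => by rw [MulAut.mul_apply, aut_apply, aut_apply, aut_apply, fAut_lm k hl m hm]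

theorem aut_zero (k : Bool) : aut k ⟨0, by norm_num⟩ = 1 := MulEquiv.ext fun x => by
  obtain ⟨s, v, hv, rfl⟩ := exists_el x
  rw [aut_el k _ s hv, (zero_check k v hv).1, (zero_check k v hv).2, Bool.xor_false]
  rfl

theorem aut_congr (k : Bool) {l m : Fin 168} (h : l.val = m.val) : aut k l = aut k m := by
  rw [Fin.ext h]

/-- The word of a spanning tree element in chosen generators. -/
def treeWord {M : Type*} [Monoid M] (gn : Bool → M) (l : ℕ) : M :=
  if h : l < 168 ∧ l ≠ 0 then treeWord gn (par l) * gn (gen l) else 1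
termination_by l
decreasing_by exact (par_spec l h.1 h.2).1

theorem mk_spec : ∀ s : Bool, ∀ v < 64, ∀ l < 168,
    mk s v l < 21504 ∧ sgn (mk s v l) = s ∧ vec (mk s v l) = v ∧ lpart (mk s v l) = l := by
  decide +kernel

theorem part_lt {x : ℕ} (hx : x < 21504) : vec x < 64 ∧ lpart x < 168 := by
  refine ⟨Nat.lt_succ_of_le Nat.and_le_right, ?_⟩
  show x >>> 7 < 168
  rw [Nat.shiftRight_eq_div_pow]
  omega

theorem part_mk : ∀ x < 21504, mk (sgn x) (vec x) (lpart x) = x := by
  intro x _
  have h1 : b2n (sgn x) = x % 2 := by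
    rw [sgn, bit'_eq, Nat.testBit_zero]
    rcases Nat.mod_two_eq_zero_or_one x with e | e <;> simp [e, b2n]
  show b2n (sgn x) + 2 * ((x >>> 1) &&& 63) + 128 * (x >>> 7) = x
  rw [h1, show (63 : ℕ) = 2 ^ 6 - 1 from rfl, Nat.and_two_pow_sub_one_eq_mod, Nat.shiftRight_eq_div_pow,
    Nat.shiftRight_eq_div_pow]
  omega

variable {G : Type*} [Group G] [Finite G] {z : G} (h : Shape z)
include h

/-- The coordinates exist. -/
theorem Shape.exists_coord : ∃ k t, Nonempty (Coord k t z) := by
  classical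
  obtain ⟨k, e, hr⟩ := h.exists_frame
  set ψ := h.act e with hψ
  let zc : ↥(centralizer ({z} : Set G)) := ⟨z, mem_centralizer_singleton_iff.2 rfl⟩
  have hzc : ∀ x : ↥(centralizer ({z} : Set G)), x * zc = zc * x := fun x =>
    Subtype.ext (mem_centralizer_singleton_iff.1 x.2)
  have hzz : zc * zc = 1 := Subtype.ext h.ctr.zz
  have hz1 : zc ≠ 1 := fun e => h.ctr.ne_one (congrArg Subtype.val e)
  have hker : ∀ x, ψ x = 1 → ∃ b, x = zb zc b := fun x hx => by
    rcases h.act_ker e hx with e1 | e1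
    · exact ⟨false, Subtype.ext e1⟩
    · exact ⟨true, Subtype.ext e1⟩
  have hψz : ψ zc = 1 := by
    rw [hψ, h.act_mem e (c := zc) h.ctr.z_mem]
    refine MulEquiv.ext fun y => ?_
    rw [MulAut.conj_apply, ← mem_center_iff.1 (show e ⟨z, h.ctr.z_mem⟩ ∈ center Q6 from ?_) y,
      mul_inv_cancel_right]
    · rfl
    rw [mem_center_iff]
    intro y
    refine e.symm.injective ?_
    rw [map_mul, map_mul, MulEquiv.symm_apply_apply]
    exact Subtype.ext (h.ctr.comm (e.symm y).2)
  have hψb : ∀ b, ψ (zb zc b) = 1 := fun b => by cases b; exacts [map_one ψ, hψz]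
  have zb_inj : ∀ a b, zb zc a = zb zc b → a = b := fun a b hab => by
    cases a <;> cases b <;> first | rfl | exact absurd hab hz1 | exact absurd hab.symm hz1
  have hq : ∀ x : ↥h.Q, ψ ⟨(x : G), h.ctr.le_centralizer x.2⟩ = MulAut.conj (e x) := fun x =>
    h.act_mem e x.2
  -- lifts
  have hlift : ∀ l : Fin 168, ∃ c, ψ c = aut k l := by
    intro l
    have h1 : toO (aut k l) ∈ (ρ k).range := ⟨ι l, by show toO (lift k (ι l)) = _; rw [lift_ι]⟩
    rw [← hr] at h1
    obtain ⟨c, hc⟩ := h1
    have h2 : toO ((aut k l)⁻¹ * ψ c) = 1 := by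
      rw [map_mul, map_inv, show toO (ψ c) = toO (aut k l) from hc, inv_mul_cancel]
    obtain ⟨x, hx⟩ := exists_conj_of_toO h2
    refine ⟨c * (⟨_, h.ctr.le_centralizer (e.symm x).2⟩ : ↥(centralizer ({z} : Set G)))⁻¹, ?_⟩
    rw [map_mul, map_inv, hq, MulEquiv.apply_symm_apply, ← hx]
    group
  -- the two generators
  have hg3 : ∃ B, ψ B = aut k ⟨gidx true, gidx_lt true⟩ ∧ B * B * B = 1 := by
    obtain ⟨B, hB⟩ := hlift ⟨gidx true, gidx_lt true⟩
    have h3 : ψ (B * B * B) = 1 := by
      rw [map_mul, map_mul, hB, aut_mul, aut_mul, aut_congr k (m := ⟨0, by norm_num⟩) (by decide +kernel),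
        aut_zero]
    obtain ⟨b, hb⟩ := hker _ h3
    refine ⟨B * zb zc b, by rw [map_mul, hψb, mul_one, hB], ?_⟩
    cases b
    · simpa [zb] using hb
    · have h1 := (show Commute B zc from hzc B).mul_pow 3
      simp only [pow_succ, pow_zero, one_mul] at h1
      show B * zc * (B * zc) * (B * zc) = 1
      rw [h1, show B * B * B = zc from hb, hzz, one_mul, hzz]
  obtain ⟨B, hB, hB3⟩ := hg3
  have hgA : ∃ A, ψ A = aut k ⟨gidx false, gidx_lt false⟩ ∧ (A * B) ^ 7 = 1 := by
    obtain ⟨A, hA⟩ := hlift ⟨gidx false, gidx_lt false⟩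
    have h7 : ψ ((A * B) ^ 7) = 1 := by
      rw [map_pow, map_mul, hA, hB, aut_mul]
      simp only [pow_succ, pow_zero, one_mul, aut_mul]
      rw [aut_congr k (m := ⟨0, by norm_num⟩) (by decide +kernel), aut_zero]
    obtain ⟨b, hb⟩ := hker _ h7
    refine ⟨A * zb zc b, by rw [map_mul, hψb, mul_one, hA], ?_⟩
    cases b
    · simpa [zb] using hb
    · show (A * zc * B) ^ 7 = 1
      rw [mul_assoc, ← hzc B, ← mul_assoc,
        (show Commute (A * B) zc from hzc _).mul_pow, hb]
      show zc * zc ^ 7 = 1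
      simp only [pow_succ, pow_zero, one_mul, hzz]
  obtain ⟨A, hA, hAB⟩ := hgA
  let gn : Bool → ↥(centralizer ({z} : Set G)) := fun g => bif g then B else A
  have hgn : ∀ g, ψ (gn g) = aut k ⟨gidx g, gidx_lt g⟩ := fun g => by cases g; exacts [hA, hB]
  let S := treeWord gn
  have hS : ∀ (l : ℕ) (hl : l < 168), ψ (S l) = aut k ⟨l, hl⟩ := by
    intro l
    induction l using Nat.strong_induction_on with
    | _ l ih =>
      intro hl
      show ψ (treeWord gn l) = _
      rw [treeWord]
      by_cases h0 : l = 0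
      · subst h0
        simp only [ne_eq, not_true_eq_false, and_false, dite_false, map_one, aut_zero]
      · obtain ⟨h1, h2⟩ := par_spec l hl h0
        rw [dif_pos ⟨hl, h0⟩, map_mul, ih _ h1 (h1.trans hl), hgn, aut_mul]
        exact aut_congr k h2
  have hedge : ∀ (l : ℕ) (g : Bool), ∃ b, l < 168 → S l * gn g = zb zc b * S (lm l (gidx g)) := by
    intro l g
    by_cases hl : l < 168
    · obtain ⟨b, hb⟩ := hker (S l * gn g * (S (lm l (gidx g)))⁻¹) (by
        rw [map_mul, map_mul, map_inv, hS l hl, hgn, hS _ (lm_range hl (gidx_lt g)), aut_mul, mul_inv_cancel])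
      exact ⟨b, fun _ => by rw [← hb, inv_mul_cancel_right]⟩
    · exact ⟨false, fun h => absurd h hl⟩
  choose ε hε using hedge
  let ef : ℕ → Bool := fun i => ε (i / 2) (decide (i % 2 = 1))
  have hef : ∀ l g, ef (2 * l + b2n g) = ε l g := fun l g => by
    cases g <;> simp only [ef, b2n, cond_true, cond_false] <;> congr 1 <;> first | omega | simp
  have hzbc : ∀ x b, x * zb zc b = zb zc b * x := fun x b => zb_comm (hzc x) b
  have hpath : ∀ (r : List Bool) (l : ℕ), l < 168 → S l * (r.map gn).prod =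
      zb zc (psum ef l r) * S (r.foldl (fun w g => lm w (gidx g)) l) := by
    intro r
    induction r with
    | nil => intro l _; simp [psum, zb]
    | cons g r ih =>
      intro l hl
      rw [List.map_cons, List.prod_cons, ← mul_assoc, hε l g hl, mul_assoc, ih _ (lm_range hl (gidx_lt g)),
        ← mul_assoc, ← zb_xor hzz, List.foldl_cons]
      simp only [psum, hef]
  have hval : ∀ r < 4, ∃ b, ((rels.getD r []).map gn).prod = zb zc b := by
    intro r hr4
    refine hker _ ?_
    have hend : ∀ r < 4, (rels.getD r []).foldl (fun w g => lm w (gidx g)) 0 = 0 := by decide +kernel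
    have h1 := congrArg ψ (hpath (rels.getD r []) 0 (by norm_num))
    rw [map_mul, map_mul, hψb, one_mul, hend r hr4, hS 0 (by norm_num), aut_zero, one_mul] at h1
    exact h1
  obtain ⟨a, ha⟩ := hval 0 (by norm_num)
  obtain ⟨c, hc⟩ := hval 3 (by norm_num)
  have hcs : ∀ r < 4, ((rels.getD r []).map gn).prod = zb zc ((csOf a c).getD r false) := by
    intro r hr4
    interval_cases r
    · exact ha
    · show ([true, true, true].map gn).prod = 1
      simpa [gn, mul_assoc] using hB3
    · show ([false, true, false, true, false, true, false, true, false, true, false, true, false, true].map gn).prod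
        = 1
      simpa [gn, pow_succ, mul_assoc] using hAB
    · exact hc
  obtain ⟨t, ht⟩ := edge_cases ef a c (fun l hl h0 => by
      obtain ⟨h1, h2⟩ := par_spec l hl h0
      have e1 := hε (par l) (gen l) (h1.trans hl)
      rw [h2] at e1
      have e2 : S l = S (par l) * gn (gen l) := by
        show treeWord gn l = _
        rw [treeWord, dif_pos ⟨hl, h0⟩]
      rw [← e2] at e1
      rw [hef]
      exact (zb_inj _ false (mul_eq_right.1 e1.symm))) (fun r hr4 l hl hend => by
      have e1 := hpath (rels.getD r []) l hl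
      rw [hend, hcs r hr4, hzbc, mul_left_inj] at e1
      exact (zb_inj _ _ e1).symm)
  have hedge' : ∀ l < 168, ∀ g, S l * gn g = zb zc (edge t l g) * S (lm l (gidx g)) := fun l hl g => by
    rw [hε l g hl, ← hef, ht l hl g]
  have hSS : ∀ m < 168, ∀ l < 168, S l * S m = zb zc (tw t l m) * S (lm l m) := by
    intro m
    induction m using Nat.strong_induction_on with
    | _ m ih =>
      intro hm l hl
      by_cases h0 : m = 0
      · subst h0
        rw [tw_zero t l hl, lm_zero l hl]
        show S l * treeWord gn 0 = 1 * S l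
        rw [treeWord, dif_neg (by simp), mul_one, one_mul]
      · obtain ⟨h1, h2⟩ := par_spec m hm h0
        have hp := h1.trans hm
        have e2 : S m = S (par m) * gn (gen m) := by
          show treeWord gn m = _
          rw [treeWord, dif_pos ⟨hm, h0⟩]
        rw [e2, ← mul_assoc, ih _ h1 hp l hl, mul_assoc, hedge' _ (lm_range hl hp), ← mul_assoc,
          ← zb_xor hzz, ← tw_step t l hl m hm h0, lm_assoc hl hp (gidx_lt _), h2]
  let q : Q6 → ↥(centralizer ({z} : Set G)) := fun x => ⟨(e.symm x : ↥h.Q), h.ctr.le_centralizer (e.symm x).2⟩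
  have q_mul : ∀ x y, q (x * y) = q x * q y := fun x y => Subtype.ext (by simp [q])
  have q_inj : Function.Injective q := fun x y hxy =>
    e.symm.injective (Subtype.ext (congrArg (fun c : ↥(centralizer ({z} : Set G)) => (c : G)) hxy))
  have hψq : ∀ x, ψ (q x) = MulAut.conj x := fun x => by rw [hq, MulEquiv.apply_symm_apply]
  have el00 : el false 0 = (1 : Q6) :=
    Ext.ext rfl (funext fun i => by rcases i with i | i <;> fin_cases i <;> rfl)
  have q_zz : ∀ b, q (el b 0) = zb zc b := by
    intro b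
    cases b
    · rw [el00]
      exact Subtype.ext (by simp [q, zb])
    · refine Subtype.ext ?_
      show ((e.symm (el true 0) : ↥h.Q) : G) = z
      have hne : el true 0 ≠ (1 : Q6) := fun h1 =>
        Bool.noConfusion (el_inj (v := 0) (w := 0) (by norm_num) (by norm_num) (h1.trans el00.symm)).1
      have hcen : el true 0 ∈ center Q6 := (mem_center_iff' (nondeg_plus 3)).2 (by funext i; rcases i with i | i <;>
        fin_cases i <;> rfl)
      rcases h.ctr.center_cases (c := e.symm (el true 0)) (mem_center_iff.2 fun y => e.injective (by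
        rw [map_mul, map_mul, MulEquiv.apply_symm_apply]; exact mem_center_iff.1 hcen _)) with e1 | e1
      · exact absurd (e.symm.injective ((Subtype.ext e1).trans (map_one e.symm).symm)) hne
      · exact e1
  have hmove : ∀ (l : ℕ) (hl : l < 168) (x : Q6), S l * q x = q (aut k ⟨l, hl⟩ x) * S l := by
    intro l hl x
    have e1 : (h.conjQ (S l) (e.symm x)) = e.symm (aut k ⟨l, hl⟩ x) := by
      rw [← hS l hl]
      show _ = e.symm (h.act e (S l) x)
      rw [h.act_apply, MulEquiv.symm_apply_apply]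
    refine Subtype.ext ?_
    show (S l : G) * (e.symm x : ↥h.Q) = (e.symm (aut k ⟨l, hl⟩ x) : ↥h.Q) * (S l : G)
    rw [← e1, h.conjQ_apply, inv_mul_cancel_right]
  let toC : ℕ → ↥(centralizer ({z} : Set G)) := fun n => q (el (sgn n) (vec n)) * S (lpart n)
  refine ⟨k, t, ⟨⟨toC, ?_, ?_, ?_, ?_⟩⟩⟩
  · intro x hx y hy
    obtain ⟨hv, hl⟩ := part_lt hx
    obtain ⟨hw, hm⟩ := part_lt hy
    have hap := ap_lt k _ hl _ hw
    obtain ⟨-, p1, p2, p3⟩ := mk_spec
      ((((sgn x ^^ sgn y) ^^ beta (vec x) (ap k (lpart x) (vec y))) ^^ cq k (lpart x) (vec y)) ^^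
        tw t (lpart x) (lpart y)) _ (xor_lt _ hv _ hap) _ (lm_range hl hm)
    show q (el (sgn (Cz.mk _ _ _)) (vec (Cz.mk _ _ _))) * S (lpart (Cz.mk _ _ _)) = toC x * toC y
    rw [p1, p2, p3]
    symm
    show q _ * S (lpart x) * (q _ * S (lpart y)) = _
    rw [mul_assoc, ← mul_assoc (S _), hmove _ hl, mul_assoc (q _) (S _), hSS _ hm _ hl,
      ← mul_assoc (q (aut k _ _)), ← q_zz, ← q_mul, aut_el k _ _ hw, el_mul _ _ hap (by norm_num),
      ← mul_assoc, ← q_mul, el_mul _ _ hv (xor_lt _ hap 0 (by norm_num))]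
    have e0 : Nat.xor (ap k (lpart x) (vec y)) 0 = ap k (lpart x) (vec y) := Nat.xor_zero _
    have e1 : ∀ v, beta v 0 = false := fun v => by simp [beta, show ∀ i, bit' 0 i = false from fun i => by
      rw [bit'_eq, Nat.zero_testBit]]
    rw [e0, e1, Bool.xor_false]
    congr 3
    generalize sgn x = a1
    generalize sgn y = a2
    generalize beta (vec x) (ap k (lpart x) (vec y)) = a3
    generalize cq k (lpart x) (vec y) = a4
    generalize tw t (lpart x) (lpart y) = a5
    revert a1 a2 a3 a4 a5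
    decide
  · intro x hx y hy hxy
    obtain ⟨hv, hl⟩ := part_lt hx
    obtain ⟨hw, hm⟩ := part_lt hy
    have h1 := congrArg (fun c => toO (ψ c)) hxy
    simp only [toC, map_mul, hψq, toO_conj, one_mul, hS _ hl, hS _ hm] at h1
    have h2 : lpart x = lpart y := by
      have h3 : ρ k (ι ⟨lpart x, hl⟩) = ρ k (ι ⟨lpart y, hm⟩) := by
        show toO (lift k _) = toO (lift k _)
        rw [lift_ι, lift_ι]
        exact h1
      exact congrArg Fin.val (ι_bijective.1 (ρ_injective k h3))
    have h4 := hxy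
    simp only [toC, h2, mul_left_inj] at h4
    obtain ⟨e1, e2⟩ := el_inj hv hw (q_inj h4)
    rw [← part_mk x hx, ← part_mk y hy, e1, e2, h2]
  · intro x
    obtain ⟨l, hl⟩ : ∃ l : Fin 168, toO (ψ x) = toO (aut k l) := by
      have h1 : toO (ψ x) ∈ (ρ k).range := hr ▸ ⟨x, rfl⟩
      obtain ⟨a, ha⟩ := h1
      exact ⟨ind a, ha.symm⟩
    have h2 : toO (ψ (x * (S l.val)⁻¹)) = 1 := by
      rw [map_mul, map_mul, map_inv, map_inv, hS _ l.isLt, hl, mul_inv_cancel]
    obtain ⟨y, hy⟩ := exists_conj_of_toO h2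
    have h3 : ψ ((q y)⁻¹ * (x * (S l.val)⁻¹)) = 1 := by rw [map_mul, map_inv, hψq, hy, inv_mul_cancel]
    obtain ⟨b, hb⟩ := hker _ h3
    obtain ⟨s, v, hv, hsv⟩ := exists_el (y * el b 0)
    obtain ⟨hlt, p1, p2, p3⟩ := mk_spec s v hv l.val l.isLt
    refine ⟨Cz.mk s v l.val, hlt, ?_⟩
    show q (el (sgn _) (vec _)) * S (lpart _) = x
    rw [p1, p2, p3, ← hsv, q_mul, q_zz, ← hb]
    group
  · show ((q (el (sgn 1) (vec 1)) * S (lpart 1) : ↥(centralizer ({z} : Set G))) : G) = z
    have e0 : sgn 1 = true ∧ vec 1 = 0 ∧ lpart 1 = 0 := by decide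
    rw [e0.1, e0.2.1, e0.2.2, q_zz]
    show ((zc * treeWord gn 0 : ↥(centralizer ({z} : Set G))) : G) = z
    rw [treeWord, dif_neg (by simp), mul_one]

end Cfsg.Agent.HeLocal.Cz
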