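import Mathlib
import Cfsg.Agent.S1008
import Cfsg.Agent.Lib.LargeExtra.Fischer.GLThree

/-!
At most two conjugacy classes of subgroups isomorphic to `L₃(2)` in the symmetric group on eight letters.
-/

set_option autoImplicit false

namespace Cfsg.Agent.HeLocal.Cz

open Subgroup Equiv Matrix

/-- `SL(3,2)`. -/
abbrev L3 : Type := SpecialLinearGroup (Fin 3) (ZMod 2)

theorem l3_card : Nat.card L3 = 168 := by
  rw [Nat.card_eq_fintype_card]
  decide +kernel

theorem l3_simple : IsSimpleGroup L3 := LargeExtra.Fischer.sl3_simple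

theorem transpose_inv (B : L3) : (B⁻¹).transpose⁻¹ = B.transpose := by
  refine inv_eq_of_mul_eq_one_right (Subtype.ext ?_)
  show (B⁻¹ : L3).1.transpose * B.1.transpose = 1
  rw [← Matrix.transpose_mul]
  exact (congrArg Matrix.transpose (congrArg Subtype.val (mul_inv_cancel B) : B.1 * (B⁻¹ : L3).1 = 1)).trans
    Matrix.transpose_one

/-- The inverse transpose. -/
def dual : L3 ≃* L3 where
  toFun A := (A⁻¹).transpose
  invFun A := (A⁻¹).transpose
  left_inv A := by
    show ((A⁻¹).transpose⁻¹).transpose = A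
    rw [transpose_inv]
    exact Subtype.ext (Matrix.transpose_transpose _)
  right_inv A := by
    show ((A⁻¹).transpose⁻¹).transpose = A
    rw [transpose_inv]
    exact Subtype.ext (Matrix.transpose_transpose _)
  map_mul' A B := by
    refine Subtype.ext ?_
    show (A * B)⁻¹.1.transpose = (A⁻¹ : L3).1.transpose * (B⁻¹ : L3).1.transpose
    rw [_root_.mul_inv_rev, ← Matrix.transpose_mul]
    rfl

/-- The stabiliser of the first unit vector. -/
def pointStab : Subgroup L3 where
  carrier := {A | ∀ i, A.1 i 0 = if i = 0 then 1 else 0}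
  one_mem' := fun i => by simp [Matrix.one_apply]
  mul_mem' {A B} hA hB i := by
    have hA' : ∀ i, A.1 i 0 = if i = 0 then 1 else 0 := hA
    have hB' : ∀ i, B.1 i 0 = if i = 0 then 1 else 0 := hB
    show (A.1 * B.1) i 0 = _
    simp [Matrix.mul_apply, hA', hB']
  inv_mem' {A} hA i := by
    have h : (A⁻¹ : L3).1 * A.1 = 1 := congrArg Subtype.val (inv_mul_cancel A)
    have h' : ((A⁻¹ : L3).1 * A.1) i 0 = (1 : Matrix (Fin 3) (Fin 3) (ZMod 2)) i 0 := by rw [h]
    have hA' : ∀ i, A.1 i 0 = if i = 0 then 1 else 0 := hA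
    simpa [Matrix.mul_apply, Fin.sum_univ_three, hA', Matrix.one_apply] using h'

theorem pointStab_card : Nat.card pointStab = 24 := by
  have : Nat.card pointStab = Fintype.card {A : L3 // ∀ i, A.1 i 0 = if i = 0 then 1 else 0} := by
    rw [← Nat.card_eq_fintype_card]; rfl
  rw [this]
  decide +kernel

/-- The two stabilisers are not conjugate. -/
theorem not_conj_dual (g : L3) : pointStab.map dual.toMonoidHom ≠ pointStab.map (MulAut.conj g).toMonoidHom := by
  intro h
  have hfix : ∀ A ∈ pointStab.map dual.toMonoidHom, ∀ i, (A.1 *ᵥ fun j => g.1 j 0) i = g.1 i 0 := by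
    intro A hA i
    rw [h] at hA
    obtain ⟨B, hB, rfl⟩ := hA
    have hB' : B.1 *ᵥ (Pi.single 0 1) = Pi.single 0 1 := by
      funext j
      rw [Matrix.mulVec_single_one]
      simpa [Pi.single_apply, Matrix.col] using hB j
    have e : (fun j => g.1 j 0) = g.1 *ᵥ Pi.single 0 1 := by
      funext j
      rw [Matrix.mulVec_single_one]; rfl
    have h2 : (g * B * g⁻¹ : L3).1 *ᵥ (fun j => g.1 j 0) = fun j => g.1 j 0 := by
      rw [e, Matrix.mulVec_mulVec]
      have hm : (g * B * g⁻¹ : L3).1 * g.1 = g.1 * B.1 :=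
        congrArg Subtype.val (inv_mul_cancel_right (g * B) g)
      rw [hm, ← Matrix.mulVec_mulVec, hB']
    exact congrFun h2 i
  have h0 : ∀ v : Fin 3 → ZMod 2,
      (∀ B : L3, (∀ i, B.1 i 0 = if i = 0 then 1 else 0) → ∀ i, ((dual B).1 *ᵥ v) i = v i) → v = 0 := by
    decide +kernel
  have h1 := h0 _ fun B hB => hfix _ ⟨B, hB, rfl⟩
  have h2 := g.2
  rw [Matrix.det_fin_three] at h2
  have a := congrFun h1 0
  have b := congrFun h1 1
  have c := congrFun h1 2
  simp only [Pi.zero_apply] at a b c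
  rw [a, b, c] at h2
  simp at h2

section Actions

variable {H : Type*} [Group H]

/-- Two actions with the same point stabiliser and every other point fixed are equivalent. -/
theorem equiv_of_stab {α : Type*} [Fintype α] [DecidableEq α] (f f' : H →* Perm α) (p p' : α)
    (hs : ∀ h, f h p = p ↔ f' h p' = p')
    (hf : ∀ x, (∀ h, f h p ≠ x) → ∀ h, f h x = x)
    (hf' : ∀ x, (∀ h, f' h p' ≠ x) → ∀ h, f' h x = x) :
    ∃ π : Perm α, ∀ h x, π (f h x) = f' h (π x) := by
  classical
  have key : ∀ a b, f a p = f b p ↔ f' a p' = f' b p' := fun a b => by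
    have h1 := hs (b⁻¹ * a)
    simp only [map_mul, map_inv, Perm.mul_apply, Perm.inv_eq_iff_eq] at h1
    exact h1
  let P : α → Prop := fun x => ∃ h, f h p = x
  let P' : α → Prop := fun x => ∃ h, f' h p' = x
  let F : {x // P x} → {x // P' x} := fun x => ⟨f' x.2.choose p', ⟨_, rfl⟩⟩
  have hF : ∀ h, (F ⟨f h p, h, rfl⟩ : α) = f' h p' := fun h =>
    (key _ _).1 (Exists.choose_spec (⟨h, rfl⟩ : P (f h p)))
  have hbij : Function.Bijective F := by
    refine ⟨fun x y e => ?_, fun y => ?_⟩
    · obtain ⟨x, a, rfl⟩ := x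
      obtain ⟨y, b, rfl⟩ := y
      have e' := congrArg Subtype.val e
      rw [hF, hF] at e'
      exact Subtype.ext ((key a b).2 e')
    · obtain ⟨y, b, rfl⟩ := y
      exact ⟨⟨f b p, b, rfl⟩, Subtype.ext (hF b)⟩
  let π := (Equiv.ofBijective F hbij).extendSubtype
  refine ⟨π, fun h x => ?_⟩
  by_cases hx : P x
  · obtain ⟨a, rfl⟩ := hx
    have e1 : π (f h (f a p)) = f' (h * a) p' := by
      rw [show f h (f a p) = f (h * a) p by rw [map_mul]; rfl,
        Equiv.extendSubtype_apply_of_mem _ _ ⟨h * a, rfl⟩]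
      exact hF _
    rw [e1, Equiv.extendSubtype_apply_of_mem _ _ ⟨a, rfl⟩]
    show _ = f' h (F ⟨f a p, a, rfl⟩ : α)
    rw [hF, map_mul, Perm.mul_apply]
  · rw [hf x (fun a e => hx ⟨a, e⟩)]
    exact (hf' _ (fun a e => Equiv.extendSubtype_not_mem _ _ hx (show P' _ from ⟨a, e⟩)) h).symm

theorem range_conj {α : Type*} (f f' : H →* Perm α) (π : Perm α)
    (h : ∀ a x, π (f a x) = f' a (π x)) : f'.range = f.range.map (MulAut.conj π).toMonoidHom := by
  have e : ∀ a, f' a = π * f a * π⁻¹ := fun a => Equiv.ext fun x => by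
    have h1 := h a (π⁻¹ x)
    simpa using h1.symm
  ext y
  constructor
  · rintro ⟨a, rfl⟩
    exact ⟨f a, ⟨a, rfl⟩, (e a).symm⟩
  · rintro ⟨_, ⟨a, rfl⟩, rfl⟩
    exact ⟨a, e a⟩

/-- The point stabiliser of an action. -/
def stab {α : Type*} (f : H →* Perm α) (p : α) : Subgroup H where
  carrier := {h | f h p = p}
  one_mem' := by simp
  mul_mem' {a b} ha hb := by
    show f (a * b) p = p
    rw [map_mul, Perm.mul_apply, show f b p = p from hb]; exact ha
  inv_mem' {a} ha := by
    show f a⁻¹ p = p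
    rw [map_inv, Perm.inv_eq_iff_eq]
    exact (show f a p = p from ha).symm

theorem mem_stab {α : Type*} {f : H →* Perm α} {p : α} {h : H} : h ∈ stab f p ↔ f h p = p := Iff.rfl

theorem stab_smul {α : Type*} (f : H →* Perm α) (p : α) (g : H) :
    stab f (f g p) = (stab f p).map (MulAut.conj g).toMonoidHom := by
  ext h
  rw [mem_map_equiv, MulAut.conj_symm_apply, mem_stab, mem_stab, map_mul, map_mul, Perm.mul_apply,
    Perm.mul_apply, map_inv, Perm.inv_eq_iff_eq]

theorem map_conj_trans (g₁ g₂ : H) (A B C : Subgroup H) (hA : A = C.map (MulAut.conj g₁).toMonoidHom)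
    (hB : B = C.map (MulAut.conj g₂).toMonoidHom) :
    A = B.map (MulAut.conj (g₁ * g₂⁻¹)).toMonoidHom := by
  ext x
  rw [hA, hB, mem_map_equiv, mem_map_equiv, mem_map_equiv, MulAut.conj_symm_apply, MulAut.conj_symm_apply,
    MulAut.conj_symm_apply]
  simp [mul_assoc]

theorem card_orbit {α : Type*} [Finite α] (f : H →* Perm α) (p : α) :
    Nat.card {x // ∃ h, f h p = x} = (stab f p).index := by
  classical
  rw [Subgroup.index]
  symm
  refine Nat.card_congr (Equiv.ofBijective
    (fun q => Quotient.liftOn' q (fun h => (⟨f h p, h, rfl⟩ : {x // ∃ h, f h p = x})) ?_) ⟨?_, ?_⟩)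
  · intro a b hab
    have := QuotientGroup.leftRel_apply.1 hab
    rw [mem_stab, map_mul, map_inv, Perm.mul_apply, Perm.inv_eq_iff_eq] at this
    exact Subtype.ext this.symm
  · intro a b
    induction a using Quotient.inductionOn'
    induction b using Quotient.inductionOn'
    intro e
    refine Quotient.sound' (QuotientGroup.leftRel_apply.2 ?_)
    rw [mem_stab, map_mul, map_inv, Perm.mul_apply, Perm.inv_eq_iff_eq]
    exact (congrArg Subtype.val e).symm
  · rintro ⟨x, h, rfl⟩
    exact ⟨QuotientGroup.mk h, rfl⟩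

end Actions

/-- A proper subgroup of `L₃(2)` is maximal of order `24` or `21`, or smaller. -/
theorem coatom_above {M : Subgroup L3} (hM : M ≠ ⊤) :
    ∃ K, IsCoatom K ∧ M ≤ K ∧ (Nat.card K = 24 ∨ Nat.card K = 21) := by
  have := l3_simple
  obtain ⟨K, hK, hMK⟩ := (eq_top_or_exists_le_coatom M).resolve_left hM
  refine ⟨K, hK, hMK, ?_⟩
  rcases (S1008.result (G := L3) l3_card).1 K hK with ⟨⟨e⟩⟩ | ⟨h, -⟩
  · left
    rw [Nat.card_congr e.toEquiv, Nat.card_eq_fintype_card, Fintype.card_perm, Fintype.card_fin]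
    rfl
  · exact Or.inr h

theorem coatom_of_card {M : Subgroup L3} (h : Nat.card M = 24 ∨ Nat.card M = 21) : IsCoatom M := by
  have hne : M ≠ ⊤ := fun e => by
    rw [e, Subgroup.card_top, l3_card] at h
    omega
  obtain ⟨K, hK, hMK, hc⟩ := coatom_above hne
  have hd := Subgroup.card_dvd_of_le hMK
  have : M = K := Subgroup.eq_of_le_of_card_ge hMK (by rcases h with h | h <;> rcases hc with hc | hc <;> rw [h, hc] at hd ⊢ <;> omega)
  exact this ▸ hK

/-- Every subgroup of order `24` is conjugate to the point stabiliser or to its dual. -/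
theorem card_twentyfour {M : Subgroup L3} (h : Nat.card M = 24) :
    ∃ g, M = pointStab.map (MulAut.conj g).toMonoidHom ∨
      M = (pointStab.map dual.toMonoidHom).map (MulAut.conj g).toMonoidHom := by
  have := l3_simple
  obtain ⟨M₁, M₂, -, -, -, -, -, hall⟩ := (S1008.result (G := L3) l3_card).2.2
  have hS4 : ∀ K : Subgroup L3, Nat.card K = 24 → Nonempty (↥K ≃* Perm (Fin 4)) := fun K hK => by
    rcases (S1008.result (G := L3) l3_card).1 K (coatom_of_card (Or.inl hK)) with h1 | ⟨h1, -⟩
    · exact h1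
    · omega
  have hd : Nat.card (pointStab.map dual.toMonoidHom) = 24 := by
    rw [Subgroup.card_map_of_injective dual.injective, pointStab_card]
  have hcomb := map_conj_trans (H := L3)
  obtain ⟨a, ha⟩ := hall _ (coatom_of_card (Or.inl pointStab_card)) (hS4 _ pointStab_card)
  obtain ⟨b, hb⟩ := hall _ (coatom_of_card (Or.inl hd)) (hS4 _ hd)
  obtain ⟨c, hc⟩ := hall _ (coatom_of_card (Or.inl h)) (hS4 _ h)
  rcases ha with ha | ha <;> rcases hb with hb | hb
  · exact absurd (hcomb _ _ _ _ _ hb ha) (not_conj_dual _)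
  · rcases hc with hc | hc
    · exact ⟨_, Or.inl (hcomb _ _ _ _ _ hc ha)⟩
    · exact ⟨_, Or.inr (hcomb _ _ _ _ _ hc hb)⟩
  · rcases hc with hc | hc
    · exact ⟨_, Or.inr (hcomb _ _ _ _ _ hc hb)⟩
    · exact ⟨_, Or.inl (hcomb _ _ _ _ _ hc ha)⟩
  · exact absurd (hcomb _ _ _ _ _ hb ha) (not_conj_dual _)

variable (f : L3 →* Perm (Fin 8))

/-- Orbit lengths of an action on eight points. -/
theorem orbit_cases (p : Fin 8) : stab f p = ⊤ ∨ Nat.card (stab f p) = 24 ∨ Nat.card (stab f p) = 21 := by
  by_cases h : stab f p = ⊤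
  · exact Or.inl h
  right
  obtain ⟨K, -, hle, hc⟩ := coatom_above h
  have h1 : (stab f p).index ≤ 8 := by
    rw [← card_orbit f p]
    exact (Nat.card_le_card_of_injective _ Subtype.val_injective).trans (by simp)
  have h2 := (stab f p).card_mul_index
  rw [l3_card] at h2
  have h3 := Subgroup.card_dvd_of_le hle
  have h4 : 21 ≤ Nat.card (stab f p) := by
    by_contra h5
    have := Nat.mul_le_mul (show Nat.card (stab f p) ≤ 20 by omega) h1
    omega
  rcases hc with hc | hc <;> rw [hc] at h3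
  · left
    have := Nat.le_of_dvd (by norm_num) h3
    obtain ⟨k, hk⟩ := h3
    interval_cases Nat.card (stab f p) <;> omega
  · right
    have := Nat.le_of_dvd (by norm_num) h3
    omega

theorem trans_of_stab {p : Fin 8} (h : Nat.card (stab f p) = 21) (x : Fin 8) : ∃ a, f a p = x := by
  classical
  have h2 := (stab f p).card_mul_index
  rw [l3_card, h] at h2
  have h1 := card_orbit f p
  rw [Nat.card_eq_fintype_card] at h1
  by_contra hx
  have : Fintype.card {x // ∃ a, f a p = x} < Fintype.card (Fin 8) := Fintype.card_subtype_lt hx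
  rw [Fintype.card_fin] at this
  omega

theorem fixed_of_stab {p : Fin 8} (h : Nat.card (stab f p) = 24) (x : Fin 8)
    (hx : ∀ a, f a p ≠ x) : ∀ a, f a x = x := by
  classical
  have horb : ∀ a b, f a x ≠ f b p := fun a b e => hx (a⁻¹ * b) (by
    rw [map_mul, Perm.mul_apply, ← e, map_inv]; simp)
  have hcard : (stab f p).index = 7 := by
    have h2 := (stab f p).card_mul_index
    rw [l3_card, h] at h2
    omega
  have h1 : Fintype.card {y : Fin 8 // ¬ ∃ a, f a p = y} = 1 := by
    rw [Fintype.card_subtype_compl, Fintype.card_fin, ← Nat.card_eq_fintype_card, card_orbit, hcard]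
  intro a
  have h3 := Fintype.card_le_one_iff.1 h1.le ⟨f a x, fun ⟨b, e⟩ => horb a b e.symm⟩ ⟨x, fun ⟨b, e⟩ => hx b e⟩
  exact congrArg Subtype.val h3

/-- Two injective actions of the same shape have conjugate images. -/
theorem conj_range_trans {f f' : L3 →* Perm (Fin 8)} {p p' : Fin 8} (h : Nat.card (stab f p) = 21)
    (h' : Nat.card (stab f' p') = 21) : ∃ π, f'.range = f.range.map (MulAut.conj π).toMonoidHom := by
  have := l3_simple
  obtain ⟨g, hg⟩ := (S1008.result (G := L3) l3_card).2.1 _ _ (coatom_of_card (Or.inr h)) (coatom_of_card (Or.inr h')) h h'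
  rw [← stab_smul] at hg
  obtain ⟨π, hπ⟩ := equiv_of_stab f f' (f g p) p' (fun a => by rw [← mem_stab, ← mem_stab, hg])
    (fun x hx => absurd (trans_of_stab f (p := f g p) (by rw [← hg]; exact h') x) fun ⟨a, e⟩ => hx a e)
    (fun x hx => absurd (trans_of_stab f' h' x) fun ⟨a, e⟩ => hx a e)
  exact ⟨π, range_conj f f' π hπ⟩

theorem conj_range_fix {f f' : L3 →* Perm (Fin 8)}
    {p p' : Fin 8} (h : Nat.card (stab f p) = 24)
    (h' : Nat.card (stab f' p') = 24) : ∃ π, f'.range = f.range.map (MulAut.conj π).toMonoidHom := by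
  have norm : ∀ (φ : L3 →* Perm (Fin 8)) (q : Fin 8), Nat.card (stab φ q) = 24 →
      ∃ (ψ : L3 →* Perm (Fin 8)) (r : Fin 8), ψ.range = φ.range ∧
        stab ψ r = pointStab := by
    intro φ q hq
    have hback : ∀ (χ : L3 →* Perm (Fin 8)) (r : Fin 8) (g : L3) (P : Subgroup L3),
        stab χ r = P.map (MulAut.conj g).toMonoidHom → stab χ (χ g⁻¹ r) = P := by
      intro χ r g P e
      rw [stab_smul, e, Subgroup.map_map]
      convert Subgroup.map_id P using 2
      ext x
      simp [mul_assoc]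
    obtain ⟨g, e | e⟩ := card_twentyfour hq
    · exact ⟨φ, φ g⁻¹ q, rfl, hback φ q g _ e⟩
    · refine ⟨φ.comp dual.toMonoidHom, φ g⁻¹ q, ?_, ?_⟩
      · rw [MonoidHom.range_comp, MonoidHom.range_eq_top.2 dual.surjective, ← MonoidHom.range_eq_map]
      · have e' := hback φ q g _ e
        ext a
        have := SetLike.ext_iff.1 e' (dual a)
        rw [mem_stab] at this ⊢
        exact this.trans (Subgroup.mem_map_iff_mem dual.injective)
  obtain ⟨ψ, r, hr, hs⟩ := norm f p h
  obtain ⟨ψ', r', hr', hs'⟩ := norm f' p' h'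
  have hc : Nat.card (stab ψ r) = 24 := by rw [hs, pointStab_card]
  have hc' : Nat.card (stab ψ' r') = 24 := by rw [hs', pointStab_card]
  obtain ⟨π, hπ⟩ := equiv_of_stab ψ ψ' r r' (fun a => by rw [← mem_stab, ← mem_stab, hs, hs'])
    (fixed_of_stab ψ hc) (fixed_of_stab ψ' hc')
  exact ⟨π, by rw [← hr, ← hr', range_conj ψ ψ' π hπ]⟩

theorem exists_point (hf : Function.Injective f) :
    (∃ p, Nat.card (stab f p) = 24) ∨ ∃ p, Nat.card (stab f p) = 21 := by
  by_contra hc
  push Not at hc
  have h : ∀ p, stab f p = ⊤ := fun p => by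
    rcases orbit_cases f p with h | h | h
    · exact h
    · exact absurd h (hc.1 p)
    · exact absurd h (hc.2 p)
  have h1 : ∀ a : L3, f a = 1 := fun a => Equiv.ext fun p =>
    mem_stab.1 (by rw [h p]; exact Subgroup.mem_top a)
  have : Subsingleton L3 := ⟨fun a b => hf ((h1 a).trans (h1 b).symm)⟩
  have h168 := l3_card
  rw [Nat.card_of_subsingleton (1 : L3)] at h168
  norm_num at h168

/-- Among three copies of `L₃(2)` in a copy of `S₈`, two are conjugate. -/
theorem two_classes {P : Type*} [Group P] (e : P ≃* Perm (Fin 8)) (a b c : L3 →* P)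
    (ha : Function.Injective a) (hb : Function.Injective b) (hc : Function.Injective c)
    (hab : ∀ g : P, b.range ≠ a.range.map (MulAut.conj g).toMonoidHom) :
    ∃ g : P, c.range = a.range.map (MulAut.conj g).toMonoidHom ∨
      c.range = b.range.map (MulAut.conj g).toMonoidHom := by
  have back : ∀ x y : L3 →* P, (∃ π, (e.toMonoidHom.comp y).range =
      (e.toMonoidHom.comp x).range.map (MulAut.conj π).toMonoidHom) →
      ∃ g : P, y.range = x.range.map (MulAut.conj g).toMonoidHom := by
    rintro x y ⟨π, hπ⟩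
    refine ⟨e.symm π, Subgroup.map_injective (f := e.toMonoidHom) e.injective ?_⟩
    rw [MonoidHom.range_comp, MonoidHom.range_comp, Subgroup.map_map] at hπ
    rw [hπ, Subgroup.map_map]
    congr 1
    ext z
    simp
  have hi : ∀ {x : L3 →* P}, Function.Injective x → Function.Injective (e.toMonoidHom.comp x) :=
    fun hx => e.injective.comp hx
  rcases exists_point _ (hi ha) with ⟨p, h1⟩ | ⟨p, h1⟩ <;>
    rcases exists_point _ (hi hb) with ⟨q, h2⟩ | ⟨q, h2⟩
  · exact absurd (back a b (conj_range_fix h1 h2)).choose_spec (hab _)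
  · rcases exists_point _ (hi hc) with ⟨r, h3⟩ | ⟨r, h3⟩
    · exact (back a c (conj_range_fix h1 h3)).imp fun _ => Or.inl
    · exact (back b c (conj_range_trans h2 h3)).imp fun _ => Or.inr
  · rcases exists_point _ (hi hc) with ⟨r, h3⟩ | ⟨r, h3⟩
    · exact (back b c (conj_range_fix h2 h3)).imp fun _ => Or.inr
    · exact (back a c (conj_range_trans h1 h3)).imp fun _ => Or.inl
  · exact absurd (back a b (conj_range_trans h1 h2)).choose_spec (hab _)

end Cfsg.Agent.HeLocal.Cz
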