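import Cfsg.Agent.Lib.HeLocal.Cz.Data
import Cfsg.Agent.Lib.HeLocal.Cz.SubEight

/-!
Arithmetic in the four models `(Q ⋊ L₃(2))` or `(Q ⋊ SL₂(7))/⟨z⟩`.
An element is `s + 2 v + 128 l`: sign, vector in `𝔽₂⁶`, index in `L₃(2)`.
-/

set_option autoImplicit false

namespace Cfsg.Agent.HeLocal.Cz

/-- A bit of a natural number. -/
def bit' (n i : ℕ) : Bool := Nat.beq (Nat.land (Nat.shiftRight n i) 1) 1

def code (l : ℕ) : ℕ := Nat.land (Nat.shiftRight codeData (9 * l)) 511

def index (c : ℕ) : ℕ := Nat.land (Nat.shiftRight idxData (8 * c)) 255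

def par (l : ℕ) : ℕ := Nat.land (Nat.shiftRight parData (8 * l)) 255

def gen (l : ℕ) : Bool := bit' genData l

/-- A bit as a number. -/
def b2n (b : Bool) : ℕ := bif b then 1 else 0

/-- An entry of a product of three by three matrices given by nine bits. -/
def entry (a b i k : ℕ) : Bool :=
  ((bit' a (3 * i) && bit' b k) ^^ (bit' a (3 * i + 1) && bit' b (3 + k))) ^^
    (bit' a (3 * i + 2) && bit' b (6 + k))

/-- Nine bits. -/
def enc (e : ℕ → ℕ → Bool) : ℕ :=
  b2n (e 0 0) + 2 * b2n (e 0 1) + 4 * b2n (e 0 2) + 8 * b2n (e 1 0) + 16 * b2n (e 1 1) + 32 * b2n (e 1 2) +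
    64 * b2n (e 2 0) + 128 * b2n (e 2 1) + 256 * b2n (e 2 2)

def m3 (a b : ℕ) : ℕ := enc (entry a b)

/-- Multiplication of indices. -/
def lm (l k : ℕ) : ℕ := index (m3 (code l) (code k))

def linv (l : ℕ) : ℕ := Nat.land (Nat.shiftRight invData (8 * l)) 255

/-- The index of a generator. -/
def gidx (g : Bool) : ℕ := bif g then 2 else 1

/-- The packed columns of the action. -/
def colsD (kind : Bool) : ℕ := bif kind then colsUni else colsDec

def cqD (kind : Bool) : ℕ := bif kind then cqUni else cqDec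

/-- The action on vectors. -/
def ap (kind : Bool) (l v : ℕ) : ℕ :=
  let c := Nat.land (Nat.shiftRight (colsD kind) (36 * l)) 68719476735
  let t := fun i => bif bit' v i then Nat.land (Nat.shiftRight c (6 * i)) 63 else 0
  Nat.xor (t 0) (Nat.xor (t 1) (Nat.xor (t 2) (Nat.xor (t 3) (Nat.xor (t 4) (t 5)))))

/-- The quadratic correction of the lift. -/
def cq (kind : Bool) (l v : ℕ) : Bool := bit' (cqD kind) (64 * l + v)

/-- The cocycle of the extraspecial group. -/
def beta (v w : ℕ) : Bool :=
  ((bit' v 0 && bit' w 3) ^^ (bit' v 1 && bit' w 4)) ^^ (bit' v 2 && bit' w 5)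

/-- The cocycle of the double cover. -/
def tw (t : Bool) (l k : ℕ) : Bool := t && bit' twData (168 * l + k)

/-- The edge cocycle of the double cover. -/
def edge (t : Bool) (l : ℕ) (g : Bool) : Bool := t && bit' edgeData (2 * l + b2n g)

def mk (s : Bool) (v l : ℕ) : ℕ := b2n s + 2 * v + 128 * l

def sgn (x : ℕ) : Bool := bit' x 0

def vec (x : ℕ) : ℕ := Nat.land (Nat.shiftRight x 1) 63

def lpart (x : ℕ) : ℕ := Nat.shiftRight x 7

/-- Multiplication in a model. -/
def mul (kind t : Bool) (x y : ℕ) : ℕ :=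
  mk ((((sgn x ^^ sgn y) ^^ beta (vec x) (ap kind (lpart x) (vec y))) ^^ cq kind (lpart x) (vec y)) ^^
      tw t (lpart x) (lpart y))
    (Nat.xor (vec x) (ap kind (lpart x) (vec y))) (lm (lpart x) (lpart y))

theorem enc_lt : ∀ l < 168, code l < 512 := by decide +kernel

theorem index_code : ∀ l < 168, index (code l) = l := by decide +kernel

theorem lm_lt : ∀ l < 168, ∀ g, lm l (gidx g) < 168 := by decide +kernel

theorem par_spec : ∀ l < 168, l ≠ 0 → par l < l ∧ lm (par l) (gidx (gen l)) = l := by decide +kernel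

/-- The matrix of nine bits. -/
def mat (c : ℕ) : Matrix (Fin 3) (Fin 3) (ZMod 2) :=
  Matrix.of fun i j => bif bit' c (3 * i.val + j.val) then 1 else 0

theorem mat_det : ∀ l < 168, (mat (code l)).det = 1 := by decide +kernel

/-- The element of `SL(3,2)` of an index. -/
def ι (l : Fin 168) : L3 := ⟨mat (code l.val), mat_det l.val l.isLt⟩

theorem code_back : ∀ l < 168, enc (fun i j => bit' (code l) (3 * i + j)) = code l := by decide +kernel

theorem ι_bijective : Function.Bijective ι := by
  refine (Fintype.bijective_iff_injective_and_card _).2 ⟨fun a b e => ?_, ?_⟩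
  · have e' : mat (code a.val) = mat (code b.val) := congrArg Subtype.val e
    have hb : ∀ i j : Fin 3, bit' (code a.val) (3 * i.val + j.val) = bit' (code b.val) (3 * i.val + j.val) :=
      fun i j => by
        have h := congrFun (congrFun e' i) j
        simp only [mat, Matrix.of_apply] at h
        revert h
        generalize bit' (code a.val) _ = p
        generalize bit' (code b.val) _ = q
        revert p q
        decide
    have hc : code a.val = code b.val := by
      rw [← code_back a.val a.isLt, ← code_back b.val b.isLt]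
      simp only [enc]
      rw [show bit' (code a.val) (3 * 0 + 0) = _ from hb 0 0, show bit' (code a.val) (3 * 0 + 1) = _ from hb 0 1,
        show bit' (code a.val) (3 * 0 + 2) = _ from hb 0 2, show bit' (code a.val) (3 * 1 + 0) = _ from hb 1 0,
        show bit' (code a.val) (3 * 1 + 1) = _ from hb 1 1, show bit' (code a.val) (3 * 1 + 2) = _ from hb 1 2,
        show bit' (code a.val) (3 * 2 + 0) = _ from hb 2 0, show bit' (code a.val) (3 * 2 + 1) = _ from hb 2 1,
        show bit' (code a.val) (3 * 2 + 2) = _ from hb 2 2]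
      rfl
    apply Fin.ext
    rw [← index_code a.val a.isLt, ← index_code b.val b.isLt, hc]
  · rw [Fintype.card_fin, ← Nat.card_eq_fintype_card, l3_card]

theorem b2n_bits : ∀ f : Fin 9 → Bool, ∀ n : Fin 9,
    bit' (b2n (f 0) + 2 * b2n (f 1) + 4 * b2n (f 2) + 8 * b2n (f 3) + 16 * b2n (f 4) + 32 * b2n (f 5) +
      64 * b2n (f 6) + 128 * b2n (f 7) + 256 * b2n (f 8)) n.val = f n := by
  decide +kernel

theorem bit_enc (e : ℕ → ℕ → Bool) (i j : Fin 3) : bit' (enc e) (3 * i.val + j.val) = e i.val j.val := by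
  have h := b2n_bits ![e 0 0, e 0 1, e 0 2, e 1 0, e 1 1, e 1 2, e 2 0, e 2 1, e 2 2]
    ⟨3 * i.val + j.val, by omega⟩
  refine Eq.trans ?_ (h.trans ?_)
  · rfl
  · fin_cases i <;> fin_cases j <;> rfl

theorem mat_m3 (a b : ℕ) : mat (m3 a b) = mat a * mat b := by
  ext i k
  rw [Matrix.mul_apply, Fin.sum_univ_three]
  show (bif bit' (m3 a b) (3 * i.val + k.val) then (1 : ZMod 2) else 0) = _
  rw [m3, bit_enc]
  simp only [entry, mat, Matrix.of_apply, Fin.val_zero, Fin.val_one, Fin.val_two, Nat.mul_zero, Nat.zero_add,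
    Nat.mul_one, show 3 * 2 = 6 from rfl, Nat.add_zero]
  generalize bit' a (3 * i.val) = p
  generalize bit' a (3 * i.val + 1) = q
  generalize bit' a (3 * i.val + 2) = r
  generalize bit' b k.val = u
  generalize bit' b (3 + k.val) = v
  generalize bit' b (6 + k.val) = w
  revert p q r u v w
  decide

theorem mat_index : ∀ c < 512, index c < 168 → code (index c) = c := by decide +kernel

/-- The index of an element. -/
noncomputable def ind (A : L3) : Fin 168 := (Equiv.ofBijective ι ι_bijective).symm A

theorem ι_ind (A : L3) : ι (ind A) = A := (Equiv.ofBijective ι ι_bijective).apply_symm_apply A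

theorem ind_ι (l : Fin 168) : ind (ι l) = l := (Equiv.ofBijective ι ι_bijective).symm_apply_apply l

theorem enc_lt' (e : ℕ → ℕ → Bool) : enc e < 512 := by
  have h : ∀ b, b2n b ≤ 1 := fun b => by cases b <;> simp [b2n]
  have := h (e 0 0); have := h (e 0 1); have := h (e 0 2); have := h (e 1 0); have := h (e 1 1)
  have := h (e 1 2); have := h (e 2 0); have := h (e 2 1); have := h (e 2 2)
  unfold enc
  omega

theorem lm_spec (l k : Fin 168) : lm l.val k.val = (ind (ι l * ι k)).val := by
  set p := ind (ι l * ι k) with hp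
  have e : mat (code p.val) = mat (m3 (code l.val) (code k.val)) := by
    rw [mat_m3]
    exact congrArg Subtype.val (ι_ind (ι l * ι k))
  have hc : code p.val = m3 (code l.val) (code k.val) := by
    rw [← code_back p.val p.isLt, m3]
    have hb : ∀ i j : Fin 3, bit' (code p.val) (3 * i.val + j.val) = entry (code l.val) (code k.val) i.val j.val :=
      fun i j => by
        have h := congrFun (congrFun e i) j
        simp only [mat, Matrix.of_apply, m3, bit_enc] at h
        revert h
        generalize bit' (code p.val) _ = a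
        generalize entry (code l.val) (code k.val) _ _ = b
        revert a b
        decide
    simp only [enc]
    rw [show bit' (code p.val) (3 * 0 + 0) = _ from hb 0 0, show bit' (code p.val) (3 * 0 + 1) = _ from hb 0 1,
      show bit' (code p.val) (3 * 0 + 2) = _ from hb 0 2, show bit' (code p.val) (3 * 1 + 0) = _ from hb 1 0,
      show bit' (code p.val) (3 * 1 + 1) = _ from hb 1 1, show bit' (code p.val) (3 * 1 + 2) = _ from hb 1 2,
      show bit' (code p.val) (3 * 2 + 0) = _ from hb 2 0, show bit' (code p.val) (3 * 2 + 1) = _ from hb 2 1,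
      show bit' (code p.val) (3 * 2 + 2) = _ from hb 2 2]
    rfl
  show index (m3 (code l.val) (code k.val)) = p.val
  rw [← hc, index_code p.val p.isLt]

theorem lm_range {l k : ℕ} (hl : l < 168) (hk : k < 168) : lm l k < 168 := by
  rw [show lm l k = _ from lm_spec ⟨l, hl⟩ ⟨k, hk⟩]
  exact Fin.isLt _

theorem lm_assoc {a b c : ℕ} (ha : a < 168) (hb : b < 168) (hc : c < 168) : lm (lm a b) c = lm a (lm b c) := by
  rw [show lm a b = _ from lm_spec ⟨a, ha⟩ ⟨b, hb⟩, show lm b c = _ from lm_spec ⟨b, hb⟩ ⟨c, hc⟩]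
  rw [show lm (ind (ι ⟨a, ha⟩ * ι ⟨b, hb⟩)).val c = _ from lm_spec _ ⟨c, hc⟩,
    show lm a (ind (ι ⟨b, hb⟩ * ι ⟨c, hc⟩)).val = _ from lm_spec ⟨a, ha⟩ _, ι_ind, ι_ind, mul_assoc]

theorem gidx_lt (g : Bool) : gidx g < 168 := by cases g <;> decide

theorem lm_zero : ∀ l < 168, lm l 0 = l := by decide +kernel

theorem ι_zero : ι 0 = 1 := by decide +kernel

/-- Induction along the spanning tree. -/
theorem tree_induction {P : ℕ → Prop} (h0 : P 0) (hs : ∀ k < 168, ∀ g, P k → P (lm k (gidx g))) :
    ∀ k < 168, P k := by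
  intro k
  induction k using Nat.strong_induction_on with
  | _ k ih =>
    intro hk
    by_cases h : k = 0
    · exact h ▸ h0
    · obtain ⟨h1, h2⟩ := par_spec k hk h
      exact h2 ▸ hs _ (h1.trans hk) _ (ih _ h1 (h1.trans hk))

end Cfsg.Agent.HeLocal.Cz
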