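import Cfsg.Agent.Lib.HeLocal.Cz.Base

/-!
A central extension of `L₃(2)` by a group of order two is split or is the tabulated double cover.
-/

set_option autoImplicit false

namespace Cfsg.Agent.HeLocal.Cz

/-- The relators `a²`, `b³`, `(ab)⁷`, `(a b⁻¹ a b)⁴` in the generators. -/
def rels : List (List Bool) :=
  [[false, false], [true, true, true],
    [false, true, false, true, false, true, false, true, false, true, false, true, false, true],
    [false, true, true, false, true, false, true, true, false, true, false, true, true, false, true,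
      false, true, true, false, true]]

/-- Known values along a path, the unknown edges, and the end. -/
def walk (mask val : ℕ) : ℕ → List Bool → Bool × List ℕ × ℕ
  | u, [] => (false, [], u)
  | u, g :: r =>
    let p := walk mask val (lm u (gidx g)) r
    let i := 2 * u + b2n g
    bif bit' mask i then (bit' val i ^^ p.1, p.2.1, p.2.2) else (p.1, i :: p.2.1, p.2.2)

/-- The state: mask of known edges, values, contradiction seen. -/
def step (cs : List Bool) (st : ℕ × ℕ × Bool) (rl : ℕ × ℕ) : ℕ × ℕ × Bool :=
  match walk st.1 st.2.1 rl.2 (rels.getD rl.1 []) with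
  | (acc, [], e) =>
    bif (acc != cs.getD rl.1 false) && Nat.beq e rl.2 && (Nat.blt rl.1 4 && Nat.blt rl.2 168) then (st.1, st.2.1, true) else st
  | (acc, [i], e) =>
    bif Nat.beq e rl.2 && (Nat.blt rl.1 4 && Nat.blt rl.2 168) then
      (Nat.lor st.1 (Nat.shiftLeft 1 i), Nat.lor st.2.1 (Nat.shiftLeft (b2n (acc ^^ cs.getD rl.1 false)) i),
        st.2.2)
    else st
  | _ => st

/-- The edges of the spanning tree. -/
def treeMask : ℕ := (List.range 168).foldl (fun m k => bif Nat.beq k 0 then m
  else Nat.lor m (Nat.shiftLeft 1 (2 * par k + b2n (gen k)))) 0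

/-- Run the deductions. -/
def run (cs : List Bool) (steps : List (ℕ × ℕ)) : ℕ × ℕ × Bool :=
  steps.foldl (step cs) (treeMask, 0, false)

theorem bit'_eq (n i : ℕ) : bit' n i = n.testBit i := by
  show Nat.beq ((n >>> i) &&& 1) 1 = n.testBit i
  rw [Nat.and_one_is_mod, Nat.testBit_eq_decide_div_mod_eq, Nat.shiftRight_eq_div_pow]
  rcases Nat.mod_two_eq_zero_or_one (n / 2 ^ i) with h | h <;> rw [h] <;> rfl

section Sound

variable (e : ℕ → Bool)

/-- The state agrees with the true values. -/
def Good (st : ℕ × ℕ × Bool) : Prop :=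
  (∀ i, bit' st.1 i = true → bit' st.2.1 i = e i) ∧ (∀ i, bit' st.1 i = false → bit' st.2.1 i = false) ∧
    st.2.2 = false

/-- The sum along a path. -/
def psum : ℕ → List Bool → Bool
  | _, [] => false
  | u, g :: r => e (2 * u + b2n g) ^^ psum (lm u (gidx g)) r

theorem walk_spec (mask val : ℕ) (h : ∀ i, bit' mask i = true → bit' val i = e i) :
    ∀ (r : List Bool) (u : ℕ), psum e u r =
      ((walk mask val u r).1 ^^ (walk mask val u r).2.1.foldr (fun i s => e i ^^ s) false) ∧
      (walk mask val u r).2.2 = r.foldl (fun w g => lm w (gidx g)) u ∧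
      ∀ i ∈ (walk mask val u r).2.1, bit' mask i = false := by
  intro r
  induction r with
  | nil => intro u; exact ⟨rfl, rfl, fun i hi => by cases hi⟩
  | cons g r ih =>
    intro u
    obtain ⟨h1, h2, h3⟩ := ih (lm u (gidx g))
    by_cases hm : bit' mask (2 * u + b2n g) = true
    · refine ⟨?_, ?_, ?_⟩
      · simp only [psum, walk, hm, cond_true, h1, h _ hm]
        rw [Bool.xor_assoc]
      · simp only [walk, hm, cond_true, h2, List.foldl_cons]
      · simpa only [walk, hm, cond_true] using h3
    · rw [Bool.not_eq_true] at hm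
      refine ⟨?_, ?_, ?_⟩
      · simp only [psum, walk, hm, cond_false, h1, List.foldr_cons]
        rw [← Bool.xor_assoc, ← Bool.xor_assoc, Bool.xor_comm (e _)]
      · simp only [walk, hm, cond_false, h2, List.foldl_cons]
      · intro i hi
        simp only [walk, hm, cond_false, List.mem_cons] at hi
        rcases hi with rfl | hi
        · exact hm
        · exact h3 i hi

theorem step_good (cs : List Bool)
    (hrel : ∀ r < 4, ∀ l < 168, (rels.getD r []).foldl (fun w g => lm w (gidx g)) l = l →
      psum e l (rels.getD r []) = cs.getD r false)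
    {st : ℕ × ℕ × Bool} (h : Good e st) (rl : ℕ × ℕ) : Good e (step cs st rl) := by
  obtain ⟨hsum, hend, hunk⟩ := walk_spec e st.1 st.2.1 h.1 (rels.getD rl.1 []) rl.2
  unfold step
  rcases hw : walk st.1 st.2.1 rl.2 (rels.getD rl.1 []) with ⟨acc, unk, en⟩
  rw [hw] at hsum hend hunk
  rcases unk with _ | ⟨i, _ | ⟨j, t⟩⟩
  · simp only
    by_cases hc : ((acc != cs.getD rl.1 false) && Nat.beq en rl.2 && (Nat.blt rl.1 4 && Nat.blt rl.2 168)) = true
    · exfalso
      simp only [Bool.and_eq_true, Nat.blt_eq] at hc
      have he := Nat.eq_of_beq_eq_true hc.1.2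
      have := hrel rl.1 hc.2.1 rl.2 hc.2.2 (hend.symm.trans he)
      rw [hsum] at this
      simp at this
      exact (bne_iff_ne.1 hc.1.1) this
    · rw [Bool.not_eq_true] at hc
      rw [hc]
      exact h
  · simp only
    by_cases hc : (Nat.beq en rl.2 && (Nat.blt rl.1 4 && Nat.blt rl.2 168)) = true
    · rw [hc, cond_true]
      simp only [Bool.and_eq_true, Nat.blt_eq] at hc
      have := hrel rl.1 hc.2.1 rl.2 hc.2.2 (hend.symm.trans (Nat.eq_of_beq_eq_true hc.1))
      rw [hsum] at this
      simp only [List.foldr_cons, List.foldr_nil, Bool.xor_false] at this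
      have hi : e i = (acc ^^ cs.getD rl.1 false) := by
        rw [← this, ← Bool.xor_assoc, Bool.xor_self, Bool.false_xor]
      have hval := h.2.1 i (hunk i (by simp))
      have hb : ∀ b : Bool, ∀ j, bit' (Nat.shiftLeft (b2n b) i) j = (decide (i = j) && b) := fun b j => by
        rw [bit'_eq, show Nat.shiftLeft (b2n b) i = b2n b <<< i from rfl, Nat.testBit_shiftLeft]
        cases b
        · simp [b2n]
        · rcases lt_trichotomy i j with hij | rfl | hij
          · rw [decide_eq_false hij.ne, Bool.false_and, show b2n true = 2 ^ 0 from rfl, Nat.testBit_two_pow]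
            simp; omega
          · simp [b2n]
          · rw [decide_eq_false hij.ne', Bool.false_and]
            simp; omega
      have hmask : ∀ j, bit' (Nat.lor st.1 (Nat.shiftLeft 1 i)) j = (bit' st.1 j || decide (i = j)) := fun j => by
        rw [bit'_eq, show Nat.lor st.1 (Nat.shiftLeft 1 i) = st.1 ||| Nat.shiftLeft (b2n true) i from rfl,
          Nat.testBit_or, ← bit'_eq, ← bit'_eq, hb, Bool.and_true]
      have hv : ∀ j, bit' (Nat.lor st.2.1 (Nat.shiftLeft (b2n (acc ^^ cs.getD rl.1 false)) i)) j =
          (bit' st.2.1 j || (decide (i = j) && (acc ^^ cs.getD rl.1 false))) := fun j => by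
        rw [bit'_eq, show Nat.lor st.2.1 _ = st.2.1 ||| _ from rfl, Nat.testBit_or, ← bit'_eq, ← bit'_eq, hb]
      refine ⟨fun j hj => ?_, fun j hj => ?_, h.2.2⟩
      · simp only at hj ⊢
        rw [hv]
        by_cases hij : i = j
        · subst hij; rw [hval, decide_eq_true rfl, Bool.true_and, Bool.false_or, hi]
        · rw [decide_eq_false hij, Bool.false_and, Bool.or_false]
          rw [hmask, decide_eq_false hij, Bool.or_false] at hj
          exact h.1 j hj
      · simp only at hj ⊢
        rw [hmask] at hj
        rw [hv]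
        simp only [Bool.or_eq_false_iff] at hj
        rw [hj.2, h.2.1 j hj.1]
        rfl
    · rw [Bool.not_eq_true] at hc
      rw [hc]
      exact h
  · exact h

theorem run_good (cs : List Bool)
    (hrel : ∀ r < 4, ∀ l < 168, (rels.getD r []).foldl (fun w g => lm w (gidx g)) l = l →
      psum e l (rels.getD r []) = cs.getD r false)
    (h0 : Good e (treeMask, 0, false)) (steps : List (ℕ × ℕ)) : Good e (run cs steps) := by
  have : ∀ (s : List (ℕ × ℕ)) st, Good e st → Good e (s.foldl (step cs) st) := by
    intro s
    induction s with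
    | nil => intro st h; exact h
    | cons a s ih => intro st h; exact ih _ (step_good e cs hrel h a)
  exact this steps _ h0

end Sound

end Cfsg.Agent.HeLocal.Cz
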