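import Cfsg.Agent.Lib.HeLocal.Cz.Lift
import Cfsg.Agent.Lib.HeLocal.Cz.Twist
import Cfsg.Agent.Lib.LargeExtra.Basic
import Cfsg.Agent.Lib.LargeExtra.Centralizer
import Cfsg.Agent.GenA.ExtraspecialTwo

/-!
An involution centraliser `2^{1+6}_+ . L₃(2)` is one of the four models.
-/

set_option autoImplicit false

namespace Cfsg.Agent.HeLocal.Cz

open Subgroup Cfsg.Agent.LargeExtra Cfsg.Agent.LargeExtra.ExtForm

/-- The centraliser of `z` has the shape `2^{1+6}_+ . L₃(2)`. -/
structure Shape {G : Type*} [Group G] (z : G) where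
  Q : Subgroup G
  ctr : Ctr Q z
  card : Nat.card ↥Q = 2 ^ 7
  rank : ¬ Cfsg.PRankLE 2 3 ↥Q
  π : ↥(centralizer ({z} : Set G)) →* L3
  π_surj : Function.Surjective π
  π_ker : ∀ c, π c = 1 ↔ (c : G) ∈ Q

/-- The centraliser is the model `(kind, t)`. -/
structure Coord {G : Type*} [Group G] (kind t : Bool) (z : G) where
  toC : ℕ → ↥(centralizer ({z} : Set G))
  toC_mul : ∀ x < 21504, ∀ y < 21504, toC (mul kind t x y) = toC x * toC y
  toC_inj : ∀ x < 21504, ∀ y < 21504, toC x = toC y → x = y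
  toC_surj : ∀ c, ∃ x < 21504, toC x = c
  toC_one : (toC 1 : G) = z

variable {G : Type*} [Group G] {z : G} (h : Shape z)

/-- Conjugation on `Q`. -/
def Shape.conjQ : ↥(centralizer ({z} : Set G)) →* MulAut ↥h.Q where
  toFun c :=
    { toFun := fun x => ⟨c * x * (c : G)⁻¹, h.ctr.conj_mem (mem_centralizer_singleton_iff.1 c.2) x.2⟩
      invFun := fun x => ⟨(c : G)⁻¹ * x * c, by
        simpa using h.ctr.conj_mem (mem_centralizer_singleton_iff.1
          ((centralizer ({z} : Set G)).inv_mem c.2)) x.2⟩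
      left_inv := fun x => Subtype.ext (by simp [mul_assoc])
      right_inv := fun x => Subtype.ext (by simp [mul_assoc])
      map_mul' := fun x y => Subtype.ext (by simp [mul_assoc]) }
  map_one' := MulEquiv.ext fun x => Subtype.ext (by simp)
  map_mul' c d := MulEquiv.ext fun x => Subtype.ext (by simp [mul_assoc])

theorem Shape.conjQ_apply (c : ↥(centralizer ({z} : Set G))) (x : ↥h.Q) :
    ((h.conjQ c x : ↥h.Q) : G) = c * x * (c : G)⁻¹ := rfl

theorem Shape.conjQ_ker {c : ↥(centralizer ({z} : Set G))} (hc : h.conjQ c = 1) :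
    (c : G) = 1 ∨ (c : G) = z := by
  refine h.ctr.mem_zpowers_cases ?_
  rw [← h.ctr.cent, mem_centralizer_iff]
  intro y hy
  have e : (c : G) * y * (c : G)⁻¹ = y :=
    congrArg (fun φ : MulAut ↥h.Q => ((φ ⟨y, hy⟩ : ↥h.Q) : G)) hc
  calc y * (c : G) = (c : G) * y * (c : G)⁻¹ * c := by rw [e]
    _ = c * y := by group

theorem toO_conj (x : Q6) : toO (MulAut.conj x) = 1 := by
  refine Subtype.ext (Units.ext (Matrix.toLin'.injective (LinearMap.ext fun v => ?_)))
  rw [Matrix.toLin'_apply, Matrix.toLin'_apply]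
  show Matrix.mulVec (mx (toO (MulAut.conj x))) v = Matrix.mulVec 1 v
  rw [toO_mulVec, Matrix.one_mulVec]
  show x.v + v + x.v = v
  rw [add_right_comm, AffineLinear.add_self, zero_add]

theorem exists_conj_of_toO {φ : MulAut Q6} (hφ : toO φ = 1) : ∃ x : Q6, φ = MulAut.conj x := by
  have : Fact (Nat.Prime 2) := ⟨Nat.prime_two⟩
  have hind : ∀ v, ExtForm.ind φ v = v := fun v => by
    rw [← toO_mulVec, hφ]
    exact Matrix.one_mulVec v
  obtain ⟨g, hg⟩ := Cfsg.Agent.Transfer.Special.exists_inner_of_trivial_mod_center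
    (isExtraspecial (nondeg_plus 3)) φ (fun x => (mem_center_iff' (nondeg_plus 3)).2 (by
      show (φ x).v + x.v = 0
      rw [v_apply (nondeg_plus 3), hind, AffineLinear.add_self]))
  exact ⟨g, MulEquiv.ext fun x => hg x⟩

variable [Finite G]

/-- The action in coordinates. -/
noncomputable def Shape.act (e : ↥h.Q ≃* Q6) : ↥(centralizer ({z} : Set G)) →* MulAut Q6 :=
  (MulAut.congr e).toMonoidHom.comp h.conjQ

theorem Shape.act_apply (e : ↥h.Q ≃* Q6) (c : ↥(centralizer ({z} : Set G))) (x : Q6) :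
    h.act e c x = e (h.conjQ c (e.symm x)) := rfl

theorem Shape.act_mem (e : ↥h.Q ≃* Q6) {c : ↥(centralizer ({z} : Set G))} (hc : (c : G) ∈ h.Q) :
    h.act e c = MulAut.conj (e ⟨c, hc⟩) := MulEquiv.ext fun x => by
  rw [act_apply, show h.conjQ c (e.symm x) = ⟨c, hc⟩ * e.symm x * (⟨c, hc⟩ : ↥h.Q)⁻¹ from Subtype.ext rfl,
    map_mul, map_mul, map_inv, MulEquiv.apply_symm_apply, MulAut.conj_apply]

theorem Shape.act_ker (e : ↥h.Q ≃* Q6) {c : ↥(centralizer ({z} : Set G))} (hc : h.act e c = 1) :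
    (c : G) = 1 ∨ (c : G) = z := by
  refine h.conjQ_ker ((MulAut.congr e).injective ?_)
  rw [map_one]
  exact hc

theorem Shape.toO_act_eq_one (e : ↥h.Q ≃* Q6) (c : ↥(centralizer ({z} : Set G))) :
    toO (h.act e c) = 1 ↔ h.π c = 1 := by
  rw [h.π_ker]
  refine ⟨fun h1 => ?_, fun hc => by rw [h.act_mem e hc, toO_conj]⟩
  obtain ⟨x, hx⟩ := exists_conj_of_toO h1
  let d : ↥(centralizer ({z} : Set G)) := ⟨(e.symm x : ↥h.Q), h.ctr.le_centralizer (e.symm x).2⟩
  have hd : h.act e d = MulAut.conj x := by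
    rw [h.act_mem e (c := d) (e.symm x).2, Subtype.coe_eta, MulEquiv.apply_symm_apply]
  have h2 : h.act e (d⁻¹ * c) = 1 := by rw [map_mul, map_inv, hd, hx, inv_mul_cancel]
  have h3 : ((d⁻¹ * c : ↥(centralizer ({z} : Set G))) : G) ∈ h.Q := by
    rcases h.act_ker e h2 with e1 | e1 <;> rw [e1]
    · exact h.Q.one_mem
    · exact h.ctr.z_mem
  have h4 := h.Q.mul_mem (e.symm x).2 h3
  rwa [Subgroup.coe_mul, Subgroup.coe_inv, mul_inv_cancel_left] at h4

/-- Coordinates in which `C/Q` is one of the two standard subgroups. -/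
theorem Shape.exists_frame :
    ∃ (k : Bool) (e : ↥h.Q ≃* Q6), (toO.comp (h.act e)).range = (ρ k).range := by
  classical
  have hB := nondeg_plus 3
  haveI : Nonempty (Fin 3 ⊕ Fin 3) := ⟨.inl 0⟩
  obtain ⟨e⟩ := Cfsg.Agent.GenA.ExtraspecialTwo.iso h.ctr.ext (isExtraspecial hB)
    (by rw [h.card] : Nat.card ↥h.Q = 2 ^ (2 * 3 + 1))
    (by rw [card_ext, Fintype.card_sum, Fintype.card_fin, h.card])
    ⟨fun h0 => absurd h0 h.rank, fun h0 => absurd h0 (plus_rank 3)⟩
  set f := toO.comp (h.act e) with hf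
  have hker : ∀ c, c ∈ f.ker ↔ h.π c = 1 := fun c => by rw [MonoidHom.mem_ker]; exact h.toO_act_eq_one e c
  let c0 : L3 →* O6 := h.π.liftOfSurjective h.π_surj ⟨f, fun c hc => (hker c).2 hc⟩
  have hcomp : ∀ c, c0 (h.π c) = f c := fun c => MonoidHom.liftOfRightInverse_comp_apply _ _ _ _ _
  have hinj : Function.Injective c0 := by
    refine (injective_iff_map_eq_one _).2 fun a ha => ?_
    obtain ⟨c, rfl⟩ := h.π_surj a
    exact (hker c).1 (MonoidHom.mem_ker.2 ((hcomp c).symm.trans ha))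
  have hrange : f.range = c0.range := by
    ext y
    constructor
    · rintro ⟨c, rfl⟩; exact ⟨h.π c, hcomp c⟩
    · rintro ⟨a, rfl⟩
      obtain ⟨c, rfl⟩ := h.π_surj a
      exact ⟨c, (hcomp c).symm⟩
  obtain ⟨k, g, hg⟩ := exists_conj_ρ c0 hinj
  obtain ⟨φ, hφ⟩ := exists_lift hB (g : Matrix.GeneralLinearGroup (Fin 3 ⊕ Fin 3) (ZMod 2)) (fun v => by
    rw [← quadFormPlus_eq, ← quadFormPlus_eq]
    exact g.2 v v)
  have hφ' : toO φ = g := Subtype.ext hφ
  refine ⟨k, e.trans φ.symm, ?_⟩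
  have key : ∀ c, toO (h.act (e.trans φ.symm) c) = g⁻¹ * f c * g := fun c => by
    have e1 : h.act (e.trans φ.symm) c = φ⁻¹ * h.act e c * φ := MulEquiv.ext fun x => by
      simp [act_apply, MulAut.mul_apply]
    rw [e1, map_mul, map_mul, map_inv, hφ']
    rfl
  ext y
  constructor
  · rintro ⟨c, rfl⟩
    have h1 : f c ∈ f.range := ⟨c, rfl⟩
    rw [hrange, hg, mem_map_equiv, MulAut.conj_symm_apply, ← key] at h1
    exact h1
  · intro hy
    have h1 : g * y * g⁻¹ ∈ f.range := by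
      rw [hrange, hg]
      exact ⟨y, hy, rfl⟩
    obtain ⟨c, hc⟩ := h1
    exact ⟨c, by show toO (h.act (e.trans φ.symm) c) = y; rw [key, hc]; group⟩

/-- A bit as a power of `z`. -/
def zb (w : G) (b : Bool) : G := bif b then w else 1

theorem zb_xor {w : G} (hw : w * w = 1) : ∀ a b : Bool, zb w (a ^^ b) = zb w a * zb w b := by
  intro a b
  cases a <;> cases b <;> simp [zb, hw]

theorem zb_comm {w x : G} (hx : x * w = w * x) (b : Bool) : x * zb w b = zb w b * x := by
  cases b <;> simp [zb, hx]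

end Cfsg.Agent.HeLocal.Cz
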