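import Cfsg.Agent.Lib.HeLocal.Cz.Base
import Cfsg.Agent.Lib.HeLocal.Cz.Covers

/-!
Checks on the involutions of the three rejected models.
-/

set_option autoImplicit false

namespace Cfsg.Agent.HeLocal.Cz

/-- Square roots of `a` commuting with `b`. -/
def roots (k t : Bool) (a b : ℕ) : List ℕ :=
  ((List.range 168).filter fun l => Nat.beq (lm l l) (lpart a) && Nat.beq (lm l (lpart b)) (lm (lpart b) l)).flatMap
    fun l => ((List.range 128).map fun j => j + 128 * l).filter fun x =>
      Nat.beq (mul k t x x) a && Nat.beq (mul k t x b) (mul k t b x)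

/-- Every involution below `256` is covered, and the root counts of the representatives are correct. -/
def coverOK (k t : Bool) (cv tb : List (ℕ × ℕ × ℕ)) : Bool :=
  ((List.range 256).all fun x => Nat.blt x 2 || !Nat.beq (mul k t x x) 0 ||
    cv.any fun p => Nat.beq p.1 x) &&
  (cv.all fun p => Nat.blt p.2.1 21504 && Nat.blt p.2.2 21504 && Nat.blt p.1 21504 &&
    Nat.beq (mul k t p.2.2 p.2.1) (mul k t p.1 p.2.2) && tb.any fun q => Nat.beq q.1 p.2.1) &&
  tb.all fun q => Nat.blt q.1 21504 && Nat.beq (roots k t 1 q.1).length q.2.1 &&
    Nat.beq (roots k t q.1 1).length q.2.2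

/-- No entry has a reversed entry, apart from the allowed representative. -/
def noReverse (allow : ℕ) (tb : List (ℕ × ℕ × ℕ)) : Bool :=
  tb.all fun q => Nat.beq q.1 allow || !(tb.any fun r => Nat.beq r.2.1 q.2.2 && Nat.beq r.2.2 q.2.1)

theorem decTwist_ok : coverOK false true coverDecTwist rootTableDecTwist = true := by decide +kernel

theorem decTwist_rev : noReverse 0 rootTableDecTwist = true := by decide +kernel

theorem uni_ok : coverOK true false coverUni rootTableUni = true := by decide +kernel

theorem uni_rev : noReverse 0 rootTableUni = true := by decide +kernel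

theorem uniTwist_ok : coverOK true true coverUniTwist rootTableUniTwist = true := by decide +kernel

theorem uniTwist_rev : noReverse 2 rootTableUniTwist = true := by decide +kernel

/-- An entry with the exceptional representative. -/
theorem uniTwist_two : ∀ p ∈ coverUniTwist, p.2.1 = 2 → p.1 < 16 := by decide +kernel

theorem uniTwist_all : ∀ x < 16, 2 ≤ x → ∃ p ∈ coverUniTwist, p.1 = x ∧ p.2.1 = 2 := by decide +kernel

/-- The sixteen elements form an elementary group. -/
theorem uniTwist_square : ∀ x < 16, ∀ y < 16,
    mul true true x y < 16 ∧ mul true true x y = mul true true y x ∧ mul true true x x = 0 := by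
  decide +kernel

theorem inv_conj : ∀ l < 168, lm l l = 0 → l = 0 ∨ ∃ k < 168, lm k l = lm 1 k := by decide +kernel

theorem lm_cancel : ∀ k < 168, lm 0 k = k := by decide +kernel

end Cfsg.Agent.HeLocal.Cz
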