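import Cfsg.Agent.Lib.HeLocal.Cz.Assemble
import Cfsg.Agent.Lib.HeLocal.Cz.Facts
import Cfsg.Agent.Lib.ZStar.Main
import Cfsg.Agent.InvChar.Core

/-!
An involution of a simple group of the order of `He` has the split centraliser with decomposable module.
-/

set_option autoImplicit false

namespace Cfsg.Agent.HeLocal.Cz

open Subgroup

variable {G : Type*} [Group G]

/-- The number of square roots of `a` commuting with `b` and `c`. -/
noncomputable def rootNum (a b c : G) : ℕ := Nat.card {g : G // g * g = a ∧ g * b = b * g ∧ g * c = c * g}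

theorem rootNum_conj (h a b c : G) :
    rootNum (h * a * h⁻¹) (h * b * h⁻¹) (h * c * h⁻¹) = rootNum a b c := by
  refine (Nat.card_congr (Equiv.subtypeEquiv (MulAut.conj h).toEquiv fun g => ?_)).symm
  simp only [MulEquiv.toEquiv_eq_coe, EquivLike.coe_coe, ← MulAut.conj_apply, ← map_mul, EmbeddingLike.apply_eq_iff_eq]

/-- Roots commute with what they square to. -/
theorem rootNum_root (a b : G) :
    rootNum a b a = Nat.card {g : G // g * g = a ∧ g * b = b * g} := by
  refine Nat.card_congr (Equiv.subtypeEquivRight fun g => ⟨fun h => ⟨h.1, h.2.1⟩, fun h => ⟨h.1, h.2, ?_⟩⟩)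
  rw [← h.1, mul_assoc]

variable {z : G} {k t : Bool} (C : Coord k t z)
include C

theorem Coord.zero : C.toC 0 = 1 := by
  have h : ∀ k t, mul k t 0 0 = 0 := by decide +kernel
  have e := C.toC_mul 0 (by norm_num) 0 (by norm_num)
  rw [h] at e
  exact mul_eq_left.1 e.symm

omit C in
theorem mul_lt {x y : ℕ} (hx : x < 21504) (hy : y < 21504) :
    mul k t x y < 21504 ∧ lpart (mul k t x y) = lm (lpart x) (lpart y) := by
  obtain ⟨hv, hl⟩ := part_lt hx
  obtain ⟨hw, hm⟩ := part_lt hy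
  obtain ⟨h1, -, -, h4⟩ := mk_spec
    ((((sgn x ^^ sgn y) ^^ beta (vec x) (ap k (lpart x) (vec y))) ^^ cq k (lpart x) (vec y)) ^^
      tw t (lpart x) (lpart y)) _ (xor_lt _ hv _ (ap_lt k _ hl _ hw)) _ (lm_range hl hm)
  exact ⟨h1, h4⟩

theorem Coord.code (g : G) (hg : g * z = z * g) : ∃ x < 21504, (C.toC x : G) = g := by
  obtain ⟨x, hx, e⟩ := C.toC_surj ⟨g, mem_centralizer_singleton_iff.2 hg⟩
  exact ⟨x, hx, congrArg Subtype.val e⟩

theorem Coord.coe_mul {x y : ℕ} (hx : x < 21504) (hy : y < 21504) :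
    (C.toC (mul k t x y) : G) = C.toC x * C.toC y := congrArg Subtype.val (C.toC_mul x hx y hy)

theorem Coord.coe_inj {x y : ℕ} (hx : x < 21504) (hy : y < 21504) (h : (C.toC x : G) = C.toC y) : x = y :=
  C.toC_inj x hx y hy (Subtype.ext h)

theorem Coord.comm_z (x : ℕ) : (C.toC x : G) * z = z * C.toC x := mem_centralizer_singleton_iff.1 (C.toC x).2

theorem Coord.roots_card {a b : ℕ} (ha : a < 21504) (hb : b < 21504) :
    Nat.card {g : G // g * g = C.toC a ∧ g * C.toC b = C.toC b * g ∧ g * z = z * g} = (roots k t a b).length := by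
  have hnd : (roots k t a b).Nodup := by
    refine List.nodup_flatMap.2 ⟨fun l _ => (List.Nodup.filter _ ((List.nodup_range).map fun p q h => by omega)), ?_⟩
    refine (List.nodup_range.filter _).imp fun {l m} hne => ?_
    intro u hu hu'
    simp only [List.mem_filter, List.mem_map, List.mem_range] at hu hu'
    obtain ⟨⟨i, hi, rfl⟩, -⟩ := hu
    obtain ⟨⟨j, hj, e⟩, -⟩ := hu'
    exact hne (by omega)
  have hmem : ∀ x, x ∈ roots k t a b ↔ x < 21504 ∧ mul k t x x = a ∧ mul k t x b = mul k t b x := by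
    intro x
    simp only [roots, List.mem_flatMap, List.mem_filter, List.mem_range, List.mem_map, Bool.and_eq_true]
    constructor
    · rintro ⟨l, ⟨hl, -⟩, ⟨j, hj, rfl⟩, h1, h2⟩
      exact ⟨by omega, Nat.eq_of_beq_eq_true h1, Nat.eq_of_beq_eq_true h2⟩
    · rintro ⟨hx, h1, h2⟩
      have hl : lpart x = x / 128 := Nat.shiftRight_eq_div_pow x 7
      refine ⟨lpart x, ⟨(part_lt hx).2, ?_, ?_⟩, ⟨x % 128, Nat.mod_lt _ (by norm_num), by omega⟩, ?_, ?_⟩
      · rw [Nat.beq_eq, ← (mul_lt (k := k) (t := t) hx hx).2, h1]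
      · rw [Nat.beq_eq, ← (mul_lt (k := k) (t := t) hx hb).2, ← (mul_lt (k := k) (t := t) hb hx).2, h2]
      · rw [Nat.beq_eq]; exact h1
      · rw [Nat.beq_eq]; exact h2
  rw [← List.toFinset_card_of_nodup hnd, ← Nat.card_eq_finsetCard]
  symm
  refine Nat.card_congr (Equiv.ofBijective (fun x => ⟨(C.toC x.1 : G), ?_⟩) ⟨?_, ?_⟩)
  · obtain ⟨hx, h1, h2⟩ := (hmem x.1).1 (List.mem_toFinset.1 x.2)
    exact ⟨by rw [← C.coe_mul hx hx, h1], by rw [← C.coe_mul hx hb, ← C.coe_mul hb hx, h2], C.comm_z _⟩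
  · rintro ⟨x, hx⟩ ⟨y, hy⟩ e
    exact Subtype.ext (C.coe_inj ((hmem x).1 (List.mem_toFinset.1 hx)).1 ((hmem y).1 (List.mem_toFinset.1 hy)).1
      (congrArg Subtype.val e :))
  · rintro ⟨g, h1, h2, h3⟩
    obtain ⟨x, hx, rfl⟩ := C.code g h3
    refine ⟨⟨x, List.mem_toFinset.2 ((hmem x).2 ⟨hx, ?_, ?_⟩)⟩, rfl⟩
    · exact C.coe_inj (mul_lt hx hx).1 ha (by rw [C.coe_mul hx hx]; exact h1)
    · exact C.coe_inj (mul_lt hx hb).1 (mul_lt hb hx).1 (by rw [C.coe_mul hx hb, C.coe_mul hb hx]; exact h2)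

theorem Coord.involution_code {w : G} (hw : w * w = 1) (hwz : w * z = z * w) (h1 : w ≠ 1) (hz : w ≠ z) :
    ∃ x < 21504, 2 ≤ x ∧ mul k t x x = 0 ∧ (C.toC x : G) = w := by
  obtain ⟨x, hx, rfl⟩ := C.code w hwz
  refine ⟨x, hx, ?_, C.coe_inj (mul_lt hx hx).1 (by norm_num) (by rw [C.coe_mul hx hx, hw, C.zero]; rfl), rfl⟩
  by_contra h
  rcases (show x = 0 ∨ x = 1 by omega) with rfl | rfl
  · exact h1 (by rw [C.zero]; rfl)
  · exact hz C.toC_one

/-- Every non-central involution is conjugate in the centraliser to a covered one. -/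
theorem Coord.covered {cv tb : List (ℕ × ℕ × ℕ)} (hok : coverOK k t cv tb = true) {x : ℕ} (hx : x < 21504)
    (hx2 : 2 ≤ x) (hxx : mul k t x x = 0) :
    ∃ p ∈ cv, ∃ q ∈ tb, q.1 = p.2.1 ∧ p.2.1 < 21504 ∧ p.1 < 256 ∧ (lpart p.1 = 0 → lpart x = 0) ∧
      (lpart x = 0 → p.1 = x) ∧
      (∃ g : ↥(centralizer ({z} : Set G)), g * C.toC p.2.1 * g⁻¹ = C.toC x) ∧
      (roots k t 1 q.1).length = q.2.1 ∧ (roots k t q.1 1).length = q.2.2 := by
  simp only [coverOK, Bool.and_eq_true, List.all_eq_true, List.mem_range, List.any_eq_true, Bool.or_eq_true,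
    Nat.blt_eq, Bool.not_eq_true', Nat.beq_eq] at hok
  obtain ⟨⟨hrng, hcv⟩, htb⟩ := hok
  -- reduction to codes below 256
  obtain ⟨u, y, hu, hy, hyl, hy0, huy⟩ : ∃ u y, u < 21504 ∧ y < 256 ∧ (lpart y = 0 → lpart x = 0) ∧
      (lpart x = 0 → y = x) ∧ C.toC u * C.toC x * (C.toC u)⁻¹ = C.toC y := by
    have hl : lpart x = x / 128 := Nat.shiftRight_eq_div_pow x 7
    have hll : lm (lpart x) (lpart x) = 0 := by
      rw [← (mul_lt (k := k) (t := t) hx hx).2, hxx]; decide
    rcases inv_conj (lpart x) (part_lt hx).2 hll with h0 | ⟨m, hm, hm'⟩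
    · exact ⟨0, x, by norm_num, by omega, fun _ => h0, fun _ => rfl, by rw [C.zero, one_mul, inv_one, mul_one]⟩
    · have hmu : 128 * m < 21504 := by omega
      obtain ⟨y, hy, hy'⟩ := C.toC_surj (C.toC (128 * m) * C.toC x * (C.toC (128 * m))⁻¹)
      have hmul : mul k t y (128 * m) = mul k t (128 * m) x := C.toC_inj _ (mul_lt hy hmu).1 _ (mul_lt hmu hx).1 (by
        rw [C.toC_mul y hy _ hmu, C.toC_mul _ hmu x hx, hy', inv_mul_cancel_right])
      have hlm : lpart (128 * m) = m := by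
        show (128 * m) >>> 7 = m
        rw [Nat.shiftRight_eq_div_pow]; omega
      have hly := congrArg lpart hmul
      rw [(mul_lt hy hmu).2, (mul_lt hmu hx).2, hlm, hm'] at hly
      have hy1 : lpart y = 1 := by
        have h1 := lm_spec ⟨lpart y, (part_lt hy).2⟩ ⟨m, hm⟩
        have h2 := lm_spec ⟨1, by norm_num⟩ ⟨m, hm⟩
        have h3 := congrArg ι (Fin.ext (h1.symm.trans (hly.trans h2)))
        rw [ι_ind, ι_ind] at h3
        exact congrArg Fin.val (ι_bijective.1 (mul_right_cancel h3))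
      have hne : lpart x ≠ 0 := fun h0 => by
        rw [h0, lm_zero m hm] at hm'
        have h1 := lm_spec ⟨1, by norm_num⟩ ⟨m, hm⟩
        have h3 := congrArg ι (Fin.ext (a := ⟨m, hm⟩) (hm'.trans h1))
        rw [ι_ind] at h3
        have h4 := ι_bijective.1 ((mul_eq_right.1 h3.symm).trans ι_zero.symm)
        exact absurd (congrArg Fin.val h4) (by decide)
      refine ⟨128 * m, y, hmu, ?_, fun h0 => absurd (hy1.symm.trans h0) (by decide), fun h0 => absurd h0 hne,
        hy'.symm⟩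
      have : lpart y = y / 128 := Nat.shiftRight_eq_div_pow y 7
      omega
  have hy21 : y < 21504 := by omega
  have hyy : mul k t y y = 0 := C.toC_inj _ (mul_lt hy21 hy21).1 _ (by norm_num) (by
    rw [C.toC_mul y hy21 y hy21, ← huy, C.zero,
      show C.toC u * C.toC x * (C.toC u)⁻¹ * (C.toC u * C.toC x * (C.toC u)⁻¹) =
        C.toC u * (C.toC x * C.toC x) * (C.toC u)⁻¹ by group,
      ← C.toC_mul x hx x hx, hxx, C.zero, mul_one, mul_inv_cancel])
  have hy2 : ¬ y < 2 := fun hlt => by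
    rcases (show y = 0 ∨ y = 1 by omega) with rfl | rfl
    · have h0 : C.toC x = C.toC 0 := by
        rw [C.zero]
        rw [C.zero] at huy
        have := congrArg (fun v => (C.toC u)⁻¹ * v * C.toC u) huy
        simpa [mul_assoc] using this
      have := C.toC_inj x hx 0 (by norm_num) h0
      omega
    · have h1 : C.toC x = C.toC 1 := by
        have hc : ∀ v : ↥(centralizer ({z} : Set G)), v * C.toC 1 = C.toC 1 * v := fun v => Subtype.ext (by
          rw [Subgroup.coe_mul, Subgroup.coe_mul, C.toC_one]; exact mem_centralizer_singleton_iff.1 v.2)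
        have := congrArg (fun v => (C.toC u)⁻¹ * v * C.toC u) huy
        simp only [hc, mul_assoc, inv_mul_cancel, inv_mul_cancel_left, mul_one] at this
        exact this
      have := C.toC_inj x hx 1 (by norm_num) h1
      omega
  obtain ⟨p, hp, hpy⟩ : ∃ p ∈ cv, p.1 = y := by
    rcases hrng y hy with (h | h) | h
    · exact absurd h hy2
    · simp [hyy] at h
    · exact h
  obtain ⟨⟨⟨⟨hr, hg⟩, hc⟩, hm⟩, q, hq, hqr⟩ := hcv p hp
  obtain ⟨⟨-, hz1⟩, hz2⟩ := htb q hq
  refine ⟨p, hp, q, hq, hqr, hr, hpy ▸ hy, hpy.symm ▸ hyl, fun h0 => hpy.trans (hy0 h0), ?_, hz1, hz2⟩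
  refine ⟨(C.toC u)⁻¹ * C.toC p.2.2, ?_⟩
  have e := congrArg C.toC hm
  rw [C.toC_mul _ hg _ hr, C.toC_mul _ hc _ hg, hpy, ← huy] at e
  rw [mul_inv_rev, inv_inv,
    show (C.toC u)⁻¹ * C.toC p.2.2 * C.toC p.2.1 * ((C.toC p.2.2)⁻¹ * C.toC u) =
      (C.toC u)⁻¹ * (C.toC p.2.2 * C.toC p.2.1 * (C.toC p.2.2)⁻¹) * C.toC u by group, e]
  group

theorem Coord.root_pair {cv tb : List (ℕ × ℕ × ℕ)} (hok : coverOK k t cv tb = true) {w : G} (hw : w * w = 1)
    (hwz : w * z = z * w) (h1 : w ≠ 1) (hz : w ≠ z) :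
    ∃ q ∈ tb, rootNum z w z = q.2.1 ∧ rootNum w z w = q.2.2 ∧ ∃ p ∈ cv, p.2.1 = q.1 ∧
      ∃ x < 21504, (C.toC x : G) = w ∧ (lpart p.1 = 0 → lpart x = 0) ∧ (lpart x = 0 → p.1 = x) := by
  obtain ⟨x, hx, hx2, hxx, rfl⟩ := C.involution_code hw hwz h1 hz
  obtain ⟨p, hp, q, hq, hqr, hr, -, hl1, hl2, ⟨g, hg⟩, hc1, hc2⟩ := C.covered hok hx hx2 hxx
  have hg' : (g : G) * C.toC p.2.1 * (g : G)⁻¹ = C.toC x := congrArg Subtype.val hg
  have hgz : (g : G) * z * (g : G)⁻¹ = z := by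
    rw [mem_centralizer_singleton_iff.1 g.2, mul_inv_cancel_right]
  refine ⟨q, hq, ?_, ?_, p, hp, hqr.symm, x, hx, rfl, hl1, hl2⟩
  · have e := rootNum_conj (g : G) z (C.toC p.2.1 : G) z
    rw [hg', hgz] at e
    rw [e, ← hc1, hqr, ← C.roots_card (by norm_num) hr, C.toC_one, rootNum]
  · have e := rootNum_conj (g : G) (C.toC p.2.1 : G) z (C.toC p.2.1 : G)
    rw [hg', hgz] at e
    rw [e, ← hc2, hqr, ← C.roots_card hr (by norm_num), C.toC_one]
    refine Nat.card_congr (Equiv.subtypeEquivRight fun g => ⟨fun h => ⟨h.1, h.2.1, h.2.1⟩, fun h => ⟨h.1, h.2.1, ?_⟩⟩)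
    rw [← h.1, mul_assoc]

/-- A conjugate of `z` other than `z` in the centraliser has the exceptional representative. -/
theorem Coord.fused_rep {allow : ℕ} {cv tb : List (ℕ × ℕ × ℕ)} (hok : coverOK k t cv tb = true)
    (hrev : noReverse allow tb = true) (hz2 : z * z = 1) {w : G} (hwz : w * z = z * w) (hne : w ≠ z) {g : G}
    (hg : g * z * g⁻¹ = w) :
    ∃ p ∈ cv, p.2.1 = allow ∧ ∃ x < 21504, (C.toC x : G) = w ∧ (lpart p.1 = 0 → lpart x = 0) ∧
      (lpart x = 0 → p.1 = x) := by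
  have hz1 : z ≠ 1 := fun e => absurd (C.toC_inj 1 (by norm_num) 0 (by norm_num)
    (by rw [C.zero]; exact Subtype.ext (C.toC_one.trans e))) (by norm_num)
  have hsq : ∀ a : G, a * z * a⁻¹ * (a * z * a⁻¹) = 1 := fun a => by
    rw [show a * z * a⁻¹ * (a * z * a⁻¹) = a * (z * z) * a⁻¹ by group, hz2, mul_one, mul_inv_cancel]
  set w' := g⁻¹ * z * g with hw'
  have hwz' : w' * z = z * w' := by
    have hw : g * z * g⁻¹ * z = z * (g * z * g⁻¹) := by rw [hg]; exact hwz
    calc w' * z = g⁻¹ * (z * (g * z * g⁻¹)) * g := by rw [hw']; group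
      _ = g⁻¹ * (g * z * g⁻¹ * z) * g := by rw [hw]
      _ = z * w' := by rw [hw']; group
  have hne' : w' ≠ z := fun e => hne (by rw [← hg]; nth_rw 1 [← e]; rw [hw']; group)
  have hsq' : w' * w' = 1 := by
    have := hsq g⁻¹
    rwa [inv_inv] at this
  obtain ⟨q, hq, e1, e2, p, hp, hpq, x, hx, hxw, hl1, hl2⟩ := C.root_pair hok (hg ▸ hsq g) hwz
    (fun e => hz1 (by have := congrArg (fun v => g⁻¹ * v * g) (hg.trans e); simpa [mul_assoc] using this)) hne
  obtain ⟨q', hq', e1', e2', -⟩ := C.root_pair hok hsq' hwz'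
    (fun e => hz1 (by have := congrArg (fun v => g * v * g⁻¹) e; simpa [hw', mul_assoc] using this)) hne'
  have c1 : rootNum z w z = q'.2.2 := by
    rw [← e2', ← rootNum_conj g w' z w', hg, show g * w' * g⁻¹ = z by rw [hw']; group]
  have c2 : rootNum w z w = q'.2.1 := by
    rw [← e1', ← rootNum_conj g z w' z, hg, show g * w' * g⁻¹ = z by rw [hw']; group]
  simp only [noReverse, List.all_eq_true, Bool.or_eq_true, Nat.beq_eq, Bool.not_eq_true'] at hrev
  rcases hrev q hq with ha | hb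
  · exact ⟨p, hp, hpq.trans ha, x, hx, hxw, hl1, hl2⟩
  · exfalso
    rw [List.any_eq_false] at hb
    refine hb q' hq' ?_
    rw [Bool.and_eq_true, Nat.beq_eq, Nat.beq_eq]
    exact ⟨c2.symm.trans e2, c1.symm.trans e1⟩

theorem Coord.not_isolated [Finite G] [IsSimpleGroup G] (hz : orderOf z = 2) :
    ∃ g : G, g * z * g⁻¹ * z = z * (g * z * g⁻¹) ∧ g * z * g⁻¹ ≠ z := by
  by_contra hno
  push Not at hno
  have hiso : Cfsg.IsIsolatedInvolution z := ⟨hz, fun g hg => hno g hg.symm.eq⟩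
  have hnc : ∃ a b : G, a * b ≠ b * a := by
    by_contra hc
    push Not at hc
    have hall : ∀ k t, mul k t (16) (2) ≠ mul k t 2 16 := by decide +kernel
    exact hall k t (C.coe_inj (mul_lt (by norm_num) (by norm_num)).1 (mul_lt (by norm_num) (by norm_num)).1
      (by rw [C.coe_mul (by norm_num) (by norm_num), C.coe_mul (by norm_num) (by norm_num), hc]))
  have hO : Cfsg.oddCore G = ⊥ := by
    rcases (ZStar.Main.oddCore_normal (G := G)).eq_bot_or_eq_top with h0 | h0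
    · exact h0
    · exfalso
      have h1 := InvChar.Core.odd_card_oddCore (G := G)
      rw [h0, Subgroup.card_top, Nat.odd_iff] at h1
      have h2 : 2 ∣ Nat.card G := hz ▸ orderOf_dvd_natCard z
      omega
  have hc := ZStar.Main.mem_center_of_isolated hO hiso
  rcases (inferInstance : (Subgroup.center G).Normal).eq_bot_or_eq_top with h0 | h0
  · rw [h0, Subgroup.mem_bot] at hc
    rw [hc, orderOf_one] at hz
    norm_num at hz
  · obtain ⟨a, b, hab⟩ := hnc
    exact hab (Subgroup.mem_center_iff.1 (h0 ▸ Subgroup.mem_top b) a)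

end Cfsg.Agent.HeLocal.Cz
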