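import Cfsg.Agent.Lib.HeLocal.Cz.Base
import Cfsg.Agent.Lib.LargeExtra.ExtFormTypes
import Cfsg.Agent.S0825

/-!
Two homomorphisms `L₃(2) → Aut 2^{1+6}` and the corresponding subgroups of `O₆⁺(2)`.
-/

set_option autoImplicit false

namespace Cfsg.Agent.HeLocal.Cz

open Matrix Cfsg.Agent.LargeExtra Cfsg.Agent.LargeExtra.ExtForm

/-- The extraspecial group of order `2^7` of plus type. -/
abbrev Q6 : Type := Ext (Bplus 3)

/-- Coordinates. -/
abbrev V6 : Type := Fin 3 ⊕ Fin 3 → ZMod 2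

/-- A bit as an element of the field. -/
def bz (b : Bool) : ZMod 2 := bif b then 1 else 0

/-- The vector of a code. -/
def vOf (n : ℕ) : V6 := Sum.elim (fun i => bz (bit' n i.val)) fun i => bz (bit' n (3 + i.val))

/-- The code of a vector. -/
def vCode (v : V6) : ℕ :=
  (v (.inl 0)).val + 2 * (v (.inl 1)).val + 4 * (v (.inl 2)).val + 8 * (v (.inr 0)).val +
    16 * (v (.inr 1)).val + 32 * (v (.inr 2)).val

theorem vCode_vOf : ∀ n < 64, vCode (vOf n) = n := by decide +kernel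

theorem vCode_lt (v : V6) : vCode v < 64 := by
  have h : ∀ a : ZMod 2, a.val ≤ 1 := by decide
  have := h (v (.inl 0)); have := h (v (.inl 1)); have := h (v (.inl 2))
  have := h (v (.inr 0)); have := h (v (.inr 1)); have := h (v (.inr 2))
  unfold vCode
  omega

theorem vOf_vCode : ∀ v : V6, vOf (vCode v) = v := by decide +kernel

theorem vOf_inj {m n : ℕ} (hm : m < 64) (hn : n < 64) (h : vOf m = vOf n) : m = n := by
  rw [← vCode_vOf m hm, ← vCode_vOf n hn, h]

theorem xor_lt : ∀ m < 64, ∀ n < 64, Nat.xor m n < 64 := by decide +kernel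

theorem vOf_xor : ∀ m < 64, ∀ n < 64, ∀ i : Fin 3,
    bit' (Nat.xor m n) i.val = (bit' m i.val ^^ bit' n i.val) ∧
      bit' (Nat.xor m n) (3 + i.val) = (bit' m (3 + i.val) ^^ bit' n (3 + i.val)) := by
  decide +kernel

theorem bz_xor : ∀ a b : Bool, bz (a ^^ b) = bz a + bz b := by decide

theorem vOf_add {m n : ℕ} (hm : m < 64) (hn : n < 64) : vOf (Nat.xor m n) = vOf m + vOf n := by
  funext i
  rcases i with i | i
  · show bz (bit' (Nat.xor m n) i.val) = bz (bit' m i.val) + bz (bit' n i.val)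
    rw [(vOf_xor m hm n hn i).1, bz_xor]
  · show bz (bit' (Nat.xor m n) (3 + i.val)) = bz (bit' m (3 + i.val)) + bz (bit' n (3 + i.val))
    rw [(vOf_xor m hm n hn i).2, bz_xor]

theorem bz_and : ∀ a b : Bool, bz a * bz b = bz (a && b) := by decide

theorem β_vOf (m n : ℕ) : β (Bplus 3) (vOf m) (vOf n) = bz (beta m n) := by
  rw [β_plus, Fin.sum_univ_three]
  show bz (bit' m 0) * bz (bit' n 3) + bz (bit' m 1) * bz (bit' n 4) + bz (bit' m 2) * bz (bit' n 5) = _
  rw [beta, bz_xor, bz_xor, bz_and, bz_and, bz_and]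

/-- An element from sign and vector code. -/
def el (s : Bool) (v : ℕ) : Q6 := ⟨bz s, vOf v⟩

theorem el_mul (s t : Bool) {v w : ℕ} (hv : v < 64) (hw : w < 64) :
    el s v * el t w = el ((s ^^ t) ^^ beta v w) (Nat.xor v w) :=
  Ext.ext (by rw [mul_a]; show bz s + bz t + β _ (vOf v) (vOf w) = _; rw [β_vOf, ← bz_xor, ← bz_xor]; rfl)
    (vOf_add hv hw).symm

theorem exists_el (x : Q6) : ∃ s v, v < 64 ∧ x = el s v := by
  refine ⟨decide (x.a = 1), vCode x.v, vCode_lt _, Ext.ext ?_ (vOf_vCode x.v).symm⟩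
  show x.a = bz (decide (x.a = 1))
  generalize x.a = a
  revert a
  decide

theorem bz_inj : ∀ a b : Bool, bz a = bz b → a = b := by decide

theorem el_inj {s t : Bool} {v w : ℕ} (hv : v < 64) (hw : w < 64) (h : el s v = el t w) : s = t ∧ v = w :=
  ⟨bz_inj _ _ (congrArg Ext.a h), vOf_inj hv hw (congrArg Ext.v h)⟩

theorem ap_lt : ∀ k : Bool, ∀ l < 168, ∀ v < 64, ap k l v < 64 := by decide +kernel

theorem gen_check : ∀ k g : Bool, ∀ v < 64, ∀ w < 64,
    (cq k (gidx g) (Nat.xor v w) ^^ beta v w) =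
      ((cq k (gidx g) v ^^ cq k (gidx g) w) ^^ beta (ap k (gidx g) v) (ap k (gidx g) w)) ∧
    ap k (gidx g) (Nat.xor v w) = Nat.xor (ap k (gidx g) v) (ap k (gidx g) w) := by
  decide +kernel

theorem gen_inj : ∀ k g : Bool, ∀ v < 64, ∀ w < 64, ap k (gidx g) v = ap k (gidx g) w → v = w := by
  decide +kernel

/-- The formula of the lift. -/
def fAut (kind : Bool) (l : ℕ) (x : Q6) : Q6 :=
  el (decide (x.a = 1) ^^ cq kind l (vCode x.v)) (ap kind l (vCode x.v))

theorem fAut_el (kind : Bool) (l : ℕ) (s : Bool) {v : ℕ} (hv : v < 64) :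
    fAut kind l (el s v) = el (s ^^ cq kind l v) (ap kind l v) := by
  have h : decide (bz s = 1) = s := by cases s <;> decide
  show el (decide (bz s = 1) ^^ cq kind l (vCode (vOf v))) (ap kind l (vCode (vOf v))) = _
  rw [h, vCode_vOf v hv]

theorem gen_mul (k g : Bool) (x y : Q6) :
    fAut k (gidx g) (x * y) = fAut k (gidx g) x * fAut k (gidx g) y := by
  obtain ⟨s, v, hv, rfl⟩ := exists_el x
  obtain ⟨t, w, hw, rfl⟩ := exists_el y
  obtain ⟨h1, h2⟩ := gen_check k g v hv w hw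
  rw [el_mul s t hv hw, fAut_el k _ _ hv, fAut_el k _ _ hw, fAut_el k _ _ (xor_lt v hv w hw),
    el_mul _ _ (ap_lt k _ (gidx_lt g) v hv) (ap_lt k _ (gidx_lt g) w hw), h2]
  congr 1
  revert h1
  generalize cq k (gidx g) (Nat.xor v w) = a
  generalize beta v w = b
  generalize cq k (gidx g) v = c
  generalize cq k (gidx g) w = d
  generalize beta (ap k (gidx g) v) (ap k (gidx g) w) = e
  revert a b c d e s t
  decide

theorem gen_bij (k g : Bool) : Function.Bijective (fAut k (gidx g)) := by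
  refine Function.Injective.bijective_of_finite fun x y e => ?_
  obtain ⟨s, v, hv, rfl⟩ := exists_el x
  obtain ⟨t, w, hw, rfl⟩ := exists_el y
  rw [fAut_el k _ _ hv, fAut_el k _ _ hw] at e
  obtain ⟨e1, e2⟩ := el_inj (ap_lt k _ (gidx_lt g) v hv) (ap_lt k _ (gidx_lt g) w hw) e
  obtain rfl := gen_inj k g v hv w hw e2
  rw [show s = t by revert e1; cases s <;> cases t <;> simp]

/-- The automorphisms of the generators. -/
noncomputable def genAut (k g : Bool) : MulAut Q6 :=
  MulEquiv.ofBijective (MonoidHom.mk' (fAut k (gidx g)) (gen_mul k g)) (gen_bij k g)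

theorem step_check : ∀ k g : Bool, ∀ l < 168, ∀ v < 64,
    ap k (lm l (gidx g)) v = ap k l (ap k (gidx g) v) ∧
      cq k (lm l (gidx g)) v = (cq k (gidx g) v ^^ cq k l (ap k (gidx g) v)) := by
  decide +kernel

theorem zero_check : ∀ k : Bool, ∀ v < 64, ap k 0 v = v ∧ cq k 0 v = false := by decide +kernel

theorem fAut_step (k g : Bool) {l : ℕ} (hl : l < 168) (x : Q6) :
    fAut k (lm l (gidx g)) x = fAut k l (genAut k g x) := by
  show _ = fAut k l (fAut k (gidx g) x)
  obtain ⟨s, v, hv, rfl⟩ := exists_el x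
  obtain ⟨h1, h2⟩ := step_check k g l hl v hv
  rw [fAut_el k _ _ hv, fAut_el k _ _ hv, fAut_el k _ _ (ap_lt k _ (gidx_lt g) v hv), h1, h2,
    Bool.xor_assoc]

theorem exists_aut (k : Bool) : ∀ l < 168, ∃ φ : MulAut Q6, ∀ x, φ x = fAut k l x := by
  refine tree_induction ⟨1, fun x => ?_⟩ fun l hl g ⟨φ, hφ⟩ => ⟨φ * genAut k g, fun x => ?_⟩
  · obtain ⟨s, v, hv, rfl⟩ := exists_el x
    rw [fAut_el k _ _ hv, (zero_check k v hv).1, (zero_check k v hv).2, Bool.xor_false]
    rfl
  · rw [fAut_step k g hl, MulAut.mul_apply, hφ]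

/-- The automorphism of an index. -/
noncomputable def aut (k : Bool) (l : Fin 168) : MulAut Q6 := (exists_aut k l.val l.isLt).choose

theorem aut_apply (k : Bool) (l : Fin 168) (x : Q6) : aut k l x = fAut k l.val x :=
  (exists_aut k l.val l.isLt).choose_spec x

theorem aut_el (k : Bool) (l : Fin 168) (s : Bool) {v : ℕ} (hv : v < 64) :
    aut k l (el s v) = el (s ^^ cq k l.val v) (ap k l.val v) := by rw [aut_apply, fAut_el k _ _ hv]

theorem fAut_lm (k : Bool) {l : ℕ} (hl : l < 168) : ∀ m < 168, ∀ x : Q6,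
    fAut k (lm l m) x = fAut k l (fAut k m x) := by
  refine tree_induction (fun x => ?_) fun m hm g ih x => ?_
  · obtain ⟨s, v, hv, rfl⟩ := exists_el x
    rw [lm_zero l hl, fAut_el k 0 _ hv, (zero_check k v hv).1, (zero_check k v hv).2, Bool.xor_false]
  · rw [← lm_assoc hl hm (gidx_lt g), fAut_step k g (lm_range hl hm), ih, fAut_step k g hm]

/-- The lift of `L₃(2)`. -/
noncomputable def lift (k : Bool) : L3 →* MulAut Q6 :=
  MonoidHom.mk' (fun A => aut k (ind A)) fun A B => MulEquiv.ext fun x => by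
    rw [MulAut.mul_apply, aut_apply, aut_apply, aut_apply, ← fAut_lm k (ind A).isLt _ (ind B).isLt,
      lm_spec, ι_ind, ι_ind]

theorem lift_ι (k : Bool) (l : Fin 168) : lift k (ι l) = aut k l :=
  congrArg (aut k) (ind_ι l)

/-- The isometry group. -/
abbrev O6 : Subgroup (GL (Fin 3 ⊕ Fin 3) (ZMod 2)) :=
  Cfsg.isometryGroup (ZMod 2) (Cfsg.quadFormPlus 3 (ZMod 2))

theorem toGL_mem (φ : MulAut Q6) : toGL (nondeg_plus 3) φ ∈ O6 := fun u v => by
  show Cfsg.quadFormPlus 3 (ZMod 2) ((toGL (nondeg_plus 3) φ).val *ᵥ u) = Cfsg.quadFormPlus 3 (ZMod 2) u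
  rw [toGL_mulVec, quadFormPlus_eq, quadFormPlus_eq, ind_q (nondeg_plus 3)]

/-- The induced isometry. -/
noncomputable def toO : MulAut Q6 →* O6 := (toGL (nondeg_plus 3)).codRestrict _ toGL_mem

/-- The two embeddings. -/
noncomputable def ρ (k : Bool) : L3 →* O6 := toO.comp (lift k)

/-- The matrix of an isometry. -/
abbrev mx (g : O6) : Matrix (Fin 3 ⊕ Fin 3) (Fin 3 ⊕ Fin 3) (ZMod 2) :=
  (g : GL (Fin 3 ⊕ Fin 3) (ZMod 2)).val

theorem mx_mul (a b : O6) : mx (a * b) = mx a * mx b := rfl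

theorem toO_mulVec (φ : MulAut Q6) (v : V6) :
    mx (toO φ) *ᵥ v = ExtForm.ind φ v :=
  toGL_mulVec (nondeg_plus 3) φ v

theorem ind_aut (k : Bool) (l : Fin 168) {v : ℕ} (hv : v < 64) :
    ExtForm.ind (aut k l) (vOf v) = vOf (ap k l.val v) :=
  congrArg Ext.v (aut_el k l false hv)

theorem ρ_ι (k : Bool) (l : Fin 168) {v : ℕ} (hv : v < 64) :
    mx (ρ k (ι l)) *ᵥ vOf v = vOf (ap k l.val v) := by
  show mx (toO (lift k (ι l))) *ᵥ vOf v = _
  rw [lift_ι, toO_mulVec, ind_aut k l hv]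

theorem ρ_injective (k : Bool) : Function.Injective (ρ k) := by
  have := l3_simple
  refine (MonoidHom.ker_eq_bot_iff _).1 ((ρ k).normal_ker.eq_bot_or_eq_top.resolve_right fun h => ?_)
  have hmove : ∀ k : Bool, ∃ v < 64, ap k 1 v ≠ v := by decide +kernel
  obtain ⟨v, hv, hne⟩ := hmove k
  have e : ρ k (ι 1) = 1 := MonoidHom.mem_ker.1 (by rw [h]; exact Subgroup.mem_top _)
  have h2 := ρ_ι k 1 hv
  rw [e] at h2
  rw [show mx (1 : O6) = 1 from rfl, Matrix.one_mulVec] at h2
  exact hne (vOf_inj (ap_lt k 1 (by norm_num) v hv) hv h2.symm)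

/-- The images are not conjugate. -/
theorem ρ_not_conj (g : O6) :
    (ρ true).range ≠ (ρ false).range.map (MulAut.conj g).toMonoidHom := by
  intro h
  let M := mx g
  have hq : ∀ v, β (Bplus 3) (M *ᵥ v) (M *ᵥ v) = β (Bplus 3) v v := fun v => by
    rw [← quadFormPlus_eq, ← quadFormPlus_eq]
    exact g.2 v v
  have hsmall : ∀ v, v = 1 ∨ v = 8 → vCode (M *ᵥ vOf v) < 8 := by
    intro v hv
    have hv64 : v < 64 := by omega
    by_contra hbig
    have hw := vCode_lt (M *ᵥ vOf v)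
    have hsing : ∀ w < 64, 8 ≤ w → beta w w = false → ∃ l, l < 168 ∧
        beta (Nat.xor w (ap true l w)) (Nat.xor w (ap true l w)) = true := by decide +kernel
    have hinv : ∀ l < 168, beta (Nat.xor v (ap false l v)) (Nat.xor v (ap false l v)) = false := by
      rcases hv with rfl | rfl <;> decide +kernel
    set w := vCode (M *ᵥ vOf v) with hwdef
    have hvw : vOf w = M *ᵥ vOf v := vOf_vCode _
    have hbw : beta w w = false := by
      apply bz_inj
      rw [← β_vOf, hvw, hq, β_vOf]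
      rcases hv with rfl | rfl <;> rfl
    obtain ⟨l, hl, hbad⟩ := hsing w hw (not_lt.1 hbig) hbw
    have hmem : ρ true (ι ⟨l, hl⟩) ∈ (ρ false).range.map (MulAut.conj g).toMonoidHom := h ▸ ⟨_, rfl⟩
    obtain ⟨_, ⟨A, rfl⟩, hA⟩ := hmem
    have e : ρ true (ι ⟨l, hl⟩) * g = g * ρ false A := by
      rw [← hA]
      exact inv_mul_cancel_right (g * ρ false A) g
    have e' := congrArg (fun x : O6 => (mx x *ᵥ vOf v)) e
    simp only [mx_mul, ← Matrix.mulVec_mulVec] at e'
    rw [show mx g = M from rfl, ← hvw, ρ_ι true _ hw,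
      ← ι_ind A, ρ_ι false _ hv64] at e'
    have h1 := hinv (ind A).val (ind A).isLt
    have hm := ap_lt false (ind A).val (ind A).isLt v hv64
    have : bz (beta (Nat.xor w (ap true l w)) (Nat.xor w (ap true l w))) = 0 := by
      rw [← β_vOf, vOf_add hw (ap_lt true l hl w hw), show vOf (ap true l w) = _ from e', hvw,
        ← Matrix.mulVec_add, hq, ← vOf_add hv64 hm, β_vOf, h1]
      rfl
    rw [hbad] at this
    exact one_ne_zero this
  have horth : ∀ a < 8, ∀ b < 8, (beta a b ^^ beta b a) = false := by decide +kernel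
  have ha := hsmall 1 (Or.inl rfl)
  have hb := hsmall 8 (Or.inr rfl)
  have h3 := hq (vOf 1 + vOf 8)
  rw [Matrix.mulVec_add, β_add_left, β_add_right, β_add_right, β_add_left, β_add_right, β_add_right,
    hq, hq] at h3
  rw [← vOf_vCode (M *ᵥ vOf 1), ← vOf_vCode (M *ᵥ vOf 8)] at h3
  simp only [β_vOf] at h3
  have h4 := horth _ ha _ hb
  revert h3 h4
  generalize beta (vCode (M *ᵥ vOf 1)) (vCode (M *ᵥ vOf 8)) = p
  generalize beta (vCode (M *ᵥ vOf 8)) (vCode (M *ᵥ vOf 1)) = q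
  rw [show beta 1 1 = false from rfl, show beta 1 8 = true from rfl, show beta 8 1 = false from rfl,
    show beta 8 8 = false from rfl]
  revert p q
  decide

/-- Every copy of `L₃(2)` in the isometry group is conjugate to one of the two. -/
theorem exists_conj_ρ (c : L3 →* O6) (hc : Function.Injective c) :
    ∃ (k : Bool) (g : O6), c.range = (ρ k).range.map (MulAut.conj g).toMonoidHom := by
  obtain ⟨e⟩ := Cfsg.Agent.S0825.result (F := ZMod 2) (ZMod.card 2)
  obtain ⟨g, h | h⟩ := two_classes e (ρ false) (ρ true) c (ρ_injective _) (ρ_injective _) hc ρ_not_conj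
  · exact ⟨_, g, h⟩
  · exact ⟨_, g, h⟩

end Cfsg.Agent.HeLocal.Cz
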