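import Cfsg.Agent.Lib.HeLocal.Cz.Exclude

/-!
The involution centraliser of a simple group of the order of `He` is the split model with decomposable module.
-/

set_option autoImplicit false

namespace Cfsg.Agent.HeLocal.Cz

open Subgroup Cfsg.Agent.LargeExtra

variable {G : Type*} [Group G] [Finite G] {z : G}

theorem card_of_coord {k t : Bool} (C : Coord k t z) :
    Nat.card ↥(centralizer ({z} : Set G)) = 21504 := by
  have e : Fin 21504 ≃ ↥(centralizer ({z} : Set G)) := Equiv.ofBijective (fun i => C.toC i.val)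
    ⟨fun i j h => Fin.ext (C.toC_inj _ i.isLt _ j.isLt h), fun c => by
      obtain ⟨x, hx, rfl⟩ := C.toC_surj c
      exact ⟨⟨x, hx⟩, rfl⟩⟩
  rw [← Nat.card_congr e, Nat.card_eq_fintype_card, Fintype.card_fin]

/-- The conjugates of an element. -/
abbrev Class (z : G) : Type _ := ↥(MulAction.orbit (ConjAct G) z)

theorem card_class {k t : Bool} (C : Coord k t z) (hG : Nat.card G = 4030387200) :
    Nat.card (Class z) = 187425 := by
  have h1 : Nat.card (Class z) = (centralizer ({z} : Set G)).index := by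
    rw [Nat.card_coe_set_eq, ← MulAction.index_stabilizer (G := ConjAct G) (x := z)]
    have e : MulAction.stabilizer (ConjAct G) z =
        (centralizer ({z} : Set G)).comap (ConjAct.ofConjAct (G := G)).toMonoidHom := by
      ext c
      rw [MulAction.mem_stabilizer_iff, ConjAct.smul_def, mem_comap, mem_centralizer_singleton_iff]
      exact mul_inv_eq_iff_eq_mul
    rw [e, index_comap_of_surjective _ (ConjAct.ofConjAct (G := G)).surjective]
  have h2 := (centralizer ({z} : Set G)).card_mul_index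
  rw [card_of_coord C, hG] at h2
  omega

theorem unitwist_false [IsSimpleGroup G] (C : Coord true true z) (hz : orderOf z = 2)
    (hG : Nat.card G = 4030387200) : False := by
  have hz2 : z * z = 1 := by rw [← pow_two, ← hz, pow_orderOf_eq_one]
  have hfuse : ∀ w : G, (∃ g, g * z * g⁻¹ = w) → w * z = z * w → w ≠ z →
      ∃ x < 16, 2 ≤ x ∧ (C.toC x : G) = w ∧ ∃ u : G, u * C.toC 2 * u⁻¹ = w := by
    rintro w ⟨g, hg⟩ hwz hne
    obtain ⟨p, hp, hp2, x, hx, hxw, hl1, hl2⟩ := C.fused_rep uniTwist_ok uniTwist_rev hz2 hwz hne hg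
    have hsmall := uniTwist_two p hp hp2
    have hl : lpart p.1 = 0 := by
      show p.1 >>> 7 = 0
      rw [Nat.shiftRight_eq_div_pow]; omega
    have hpx := hl2 (hl1 hl)
    subst hpx
    have hx2 : 2 ≤ p.1 := by
      by_contra h
      rcases (show p.1 = 0 ∨ p.1 = 1 by omega) with e | e <;> rw [e] at hxw
      · rw [C.zero] at hxw
        rw [← hxw] at hg
        have h1 : z = 1 := by
          have := congrArg (fun v => g⁻¹ * v * g) hg
          simpa [mul_assoc] using this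
        rw [h1, orderOf_one] at hz
        norm_num at hz
      · exact hne (hxw.symm.trans C.toC_one)
    refine ⟨p.1, hsmall, hx2, hxw, ?_⟩
    have h := uniTwist_ok
    simp only [coverOK, Bool.and_eq_true, List.all_eq_true, Nat.blt_eq, Nat.beq_eq] at h
    obtain ⟨⟨⟨⟨hr, hgc⟩, hc⟩, hm⟩, -⟩ := h.1.2 p hp
    rw [hp2] at hm hr
    refine ⟨C.toC p.2.2, ?_⟩
    have e := congrArg (fun v => (C.toC v : G)) hm
    simp only [C.coe_mul hgc hr, C.coe_mul hc hgc, hxw] at e
    rw [e, mul_inv_cancel_right]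
  obtain ⟨g₀, hg₀c, hg₀⟩ := C.not_isolated hz
  obtain ⟨x₀, -, -, -, u₀, hu₀⟩ := hfuse _ ⟨g₀, rfl⟩ hg₀c hg₀
  have hall : ∀ x < 16, 1 ≤ x → ∃ u : G, u * z * u⁻¹ = C.toC x := by
    intro x hx hx1
    by_cases hx' : x = 1
    · exact ⟨1, by rw [hx', C.toC_one]; group⟩
    obtain ⟨p, hp, rfl, hp2⟩ := uniTwist_all x hx (by omega)
    have h := uniTwist_ok
    simp only [coverOK, Bool.and_eq_true, List.all_eq_true, Nat.blt_eq, Nat.beq_eq] at h
    obtain ⟨⟨⟨⟨hr, hgc⟩, hc⟩, hm⟩, -⟩ := h.1.2 p hp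
    rw [hp2] at hm hr
    have e := congrArg (fun v => (C.toC v : G)) hm
    simp only [C.coe_mul hgc hr, C.coe_mul hc hgc] at e
    refine ⟨C.toC p.2.2 * (u₀⁻¹ * g₀), ?_⟩
    calc (C.toC p.2.2 : G) * (u₀⁻¹ * g₀) * z * ((C.toC p.2.2 : G) * (u₀⁻¹ * g₀))⁻¹
        = C.toC p.2.2 * (u₀⁻¹ * (g₀ * z * g₀⁻¹) * u₀) * (C.toC p.2.2 : G)⁻¹ := by group
      _ = C.toC p.2.2 * C.toC 2 * (C.toC p.2.2 : G)⁻¹ := by rw [← hu₀]; group
      _ = _ := by rw [e, mul_inv_cancel_right]
  -- the elementary group of order sixteen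
  let E : Subgroup G :=
    { carrier := {g | ∃ x < 16, (C.toC x : G) = g}
      one_mem' := ⟨0, by norm_num, by rw [C.zero]; rfl⟩
      mul_mem' := by
        rintro _ _ ⟨x, hx, rfl⟩ ⟨y, hy, rfl⟩
        exact ⟨_, (uniTwist_square x hx y hy).1, C.coe_mul (by omega) (by omega)⟩
      inv_mem' := by
        rintro _ ⟨x, hx, rfl⟩
        refine ⟨x, hx, eq_inv_of_mul_eq_one_left ?_⟩
        rw [← C.coe_mul (by omega) (by omega), (uniTwist_square x hx x hx).2.2, C.zero]; rfl }
  have hE : Nat.card E = 16 := by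
    rw [← Nat.card_congr (Equiv.ofBijective
      (fun i : Fin 16 => (⟨(C.toC i.val : G), i.val, i.isLt, rfl⟩ : E))
      ⟨fun i j h => Fin.ext (C.coe_inj (by omega) (by omega) (congrArg Subtype.val h :)), fun g => by
        obtain ⟨g, x, hx, rfl⟩ := g
        exact ⟨⟨x, hx⟩, rfl⟩⟩), Nat.card_eq_fintype_card, Fintype.card_fin]
  letI : MulAction ↥E (Class z) := MulAction.compHom _ (ConjAct.toConjAct.toMonoidHom.comp E.subtype)
  have hmem : ∀ w : G, w ∈ MulAction.orbit (ConjAct G) z ↔ ∃ g, g * z * g⁻¹ = w := by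
    intro w
    constructor
    · rintro ⟨c, rfl⟩; exact ⟨ConjAct.ofConjAct c, (ConjAct.smul_def c z).symm⟩
    · rintro ⟨g, rfl⟩; exact ⟨ConjAct.toConjAct g, by show ConjAct.toConjAct g • z = _; rw [ConjAct.smul_def]; rfl⟩
  have hfix : ∀ a : E, a ≠ 1 → Nat.card (MulAction.fixedBy (Class z) a) = 15 := by
    rintro ⟨_, x, hx, rfl⟩ ha
    have hx1 : 1 ≤ x := by
      by_contra h
      obtain rfl : x = 0 := by omega
      exact ha (Subtype.ext (congrArg Subtype.val C.zero :))
    obtain ⟨u, hu⟩ := hall x hx hx1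
    have hiff : ∀ w : Class z, (⟨(C.toC x : G), x, hx, rfl⟩ : E) • w = w ↔ (C.toC x : G) * w * (C.toC x : G)⁻¹ = w :=
      fun w => ⟨fun h => congrArg Subtype.val h, fun h => Subtype.ext h⟩
    have key : ∀ i : Fin 15, ∃ v, v * z * v⁻¹ = u * C.toC (i.val + 1) * u⁻¹ := fun i => by
      obtain ⟨v, hv⟩ := hall (i.val + 1) (by omega) (by omega)
      exact ⟨u * v, by rw [← hv]; group⟩
    have hin : ∀ i : Fin 15, (C.toC x : G) * (u * C.toC (i.val + 1) * u⁻¹) * (C.toC x : G)⁻¹ =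
        u * C.toC (i.val + 1) * u⁻¹ := fun i => by
      rw [← hu, show u * z * u⁻¹ * (u * C.toC (i.val + 1) * u⁻¹) * (u * z * u⁻¹)⁻¹ =
        u * (z * C.toC (i.val + 1) * z⁻¹) * u⁻¹ by group, ← C.comm_z, mul_inv_cancel_right]
    rw [← Nat.card_congr (Equiv.ofBijective (fun i : Fin 15 =>
      (⟨⟨u * C.toC (i.val + 1) * u⁻¹, (hmem _).2 (key i)⟩, (hiff _).2 (hin i)⟩ :
        MulAction.fixedBy (Class z) (⟨(C.toC x : G), x, hx, rfl⟩ : E))) ⟨?_, ?_⟩),
      Nat.card_eq_fintype_card, Fintype.card_fin]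
    · intro i j h
      have h' : u * C.toC (i.val + 1) * u⁻¹ = u * C.toC (j.val + 1) * u⁻¹ := congrArg (fun w => (w.1.1 : G)) h
      have := C.coe_inj (by omega) (by omega) (mul_left_cancel (mul_right_cancel h'))
      exact Fin.ext (by omega)
    · rintro ⟨⟨w, hw⟩, hwf⟩
      have hc := (hiff _).1 hwf
      change (C.toC x : G) * w * (C.toC x : G)⁻¹ = w at hc
      obtain ⟨g, hg⟩ := (hmem w).1 hw
      set w' := u⁻¹ * w * u with hw'
      have hcw : w' * z = z * w' := by
        have h1 : u * z * u⁻¹ * w = w * (u * z * u⁻¹) := by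
          rw [hu]; exact mul_inv_eq_iff_eq_mul.1 hc
        calc w' * z = u⁻¹ * (w * (u * z * u⁻¹)) * u := by rw [hw']; group
          _ = u⁻¹ * (u * z * u⁻¹ * w) * u := by rw [h1]
          _ = z * w' := by rw [hw']; group
      have hw'c : ∃ g', g' * z * g'⁻¹ = w' := ⟨u⁻¹ * g, by rw [hw', ← hg]; group⟩
      obtain ⟨y, hy, hy1, hyw⟩ : ∃ y < 16, 1 ≤ y ∧ (C.toC y : G) = w' := by
        by_cases he : w' = z
        · exact ⟨1, by norm_num, le_rfl, by rw [C.toC_one, he]⟩
        · obtain ⟨y, hy, hy2, hyw, -⟩ := hfuse w' hw'c hcw he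
          exact ⟨y, hy, by omega, hyw⟩
      refine ⟨⟨y - 1, by omega⟩, Subtype.ext (Subtype.ext ?_)⟩
      show u * C.toC (y - 1 + 1) * u⁻¹ = w
      rw [Nat.sub_add_cancel hy1, hyw, hw']
      group
  classical
  haveI := Fintype.ofFinite G
  have hb := MulAction.sum_card_fixedBy_eq_card_orbits_mul_card_group ↥E (Class z)
  rw [← Finset.add_sum_erase _ _ (Finset.mem_univ (1 : E))] at hb
  have h1 : Fintype.card (MulAction.fixedBy (Class z) (1 : E)) = 187425 := by
    rw [← Nat.card_eq_fintype_card, ← card_class C hG]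
    exact Nat.card_congr (Equiv.subtypeUnivEquiv fun w => one_smul _ w)
  have hs : ∀ a ∈ (Finset.univ : Finset E).erase 1, Fintype.card (MulAction.fixedBy (Class z) a) = 15 :=
    fun a ha => Nat.card_eq_fintype_card.symm.trans (hfix a (Finset.ne_of_mem_erase ha))
  rw [h1, Finset.sum_congr rfl hs, Finset.sum_const, Finset.card_erase_of_mem (Finset.mem_univ _), Finset.card_univ, smul_eq_mul,
    ← Nat.card_eq_fintype_card (α := E), hE] at hb
  omega

/-- The centraliser is the plain decomposable model. -/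
theorem Shape.exists_dec [IsSimpleGroup G] (h : Shape z) (hG : Nat.card G = 4030387200) :
    Nonempty (Coord false false z) := by
  obtain ⟨k, t, ⟨C⟩⟩ := h.exists_coord
  have kill : ∀ {cv tb}, coverOK k t cv tb = true → noReverse 0 tb = true →
      (∀ p ∈ cv, p.2.1 ≠ 0) → False := by
    intro cv tb hok hrev hne
    obtain ⟨g, hgc, hg⟩ := C.not_isolated h.ctr.two
    obtain ⟨p, hp, hp0, -⟩ := C.fused_rep hok hrev h.ctr.zz hgc hg rfl
    exact hne p hp hp0
  cases k <;> cases t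
  · exact ⟨C⟩
  · exact (kill decTwist_ok decTwist_rev (by decide +kernel)).elim
  · exact (kill uni_ok uni_rev (by decide +kernel)).elim
  · exact (unitwist_false C h.ctr.two hG).elim

/-- The shape from the hypotheses on a normal subgroup of the centraliser. -/
theorem shape_of_hyp (ht : orderOf z = 2) (Q : Subgroup (centralizer ({z} : Set G))) [Q.Normal]
    (hQ : Cfsg.IsExtraspecial 2 Q) (hcard : Nat.card Q = 2 ^ 7)
    (hplus : ∃ E : Subgroup Q, Cfsg.IsElementaryAbelian 2 E ∧ Nat.card E = 2 ^ 4)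
    (h2c : centralizer (Q : Set (centralizer ({z} : Set G))) ≤ Q)
    (e : (centralizer ({z} : Set G)) ⧸ Q ≃* L3) : Nonempty (Shape z) := by
  classical
  let Q' := Q.map (centralizer ({z} : Set G)).subtype
  let eq : ↥Q ≃* ↥Q' := equivMapOfInjective Q _ (subtype_injective _)
  let zc : ↥(centralizer ({z} : Set G)) := ⟨z, mem_centralizer_singleton_iff.2 rfl⟩
  have hzc : ∀ y, y * zc = zc * y := fun y => Subtype.ext (mem_centralizer_singleton_iff.1 y.2)
  have hzQ : zc ∈ Q := h2c (mem_centralizer_iff.2 fun y _ => hzc y)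
  have hzne : z ≠ 1 := fun e => by rw [e, orderOf_one] at ht; norm_num at ht
  have hcases : ∀ c : ↥Q, c ∈ center ↥Q → ((c : ↥(centralizer ({z} : Set G))) : G) ∈ zpowers z := by
    intro c hc
    by_cases h1 : c = 1
    · rw [h1]; exact one_mem _
    obtain ⟨y, -, huniq⟩ := (Nat.card_eq_two_iff' (1 : center ↥Q)).1 hQ.2
    have e1 := huniq ⟨c, hc⟩ (fun e => h1 (congrArg Subtype.val e))
    have e2 := huniq ⟨⟨zc, hzQ⟩, mem_center_iff.2 fun y => Subtype.ext (hzc y.1)⟩ (fun e =>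
      hzne (congrArg (fun v => ((v.1.1 : ↥(centralizer ({z} : Set G))) : G)) e))
    have e3 : c = ⟨zc, hzQ⟩ := congrArg Subtype.val (e1.trans e2.symm)
    rw [e3]
    exact mem_zpowers z
  have hzQ' : z ∈ Q' := ⟨zc, hzQ, rfl⟩
  have hle : Q' ≤ centralizer ({z} : Set G) := map_subtype_le _
  have hctr : Ctr Q' z := by
    refine ⟨Cfsg.Agent.LargeExtra.isExtraspecial_of_equiv hQ eq, ht, le_antisymm ?_ ?_, le_antisymm ?_ ?_, ?_⟩
    · rintro _ ⟨c, hc, rfl⟩
      obtain ⟨d, rfl⟩ := eq.surjective c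
      exact hcases d (mem_center_iff.2 fun y => eq.injective (by
        rw [map_mul, map_mul]; exact mem_center_iff.1 hc (eq y)))
    · rw [zpowers_le]
      exact ⟨⟨z, hzQ'⟩, mem_center_iff.2 fun y => Subtype.ext (mem_centralizer_singleton_iff.1 (hle y.2)), rfl⟩
    · intro x hx
      have hxC : x ∈ centralizer ({z} : Set G) :=
        mem_centralizer_singleton_iff.2 (mem_centralizer_iff.1 hx z hzQ').symm
      have hxQ : (⟨x, hxC⟩ : ↥(centralizer ({z} : Set G))) ∈ Q :=
        h2c (mem_centralizer_iff.2 fun y hy => Subtype.ext (mem_centralizer_iff.1 hx _ ⟨y, hy, rfl⟩))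
      exact hcases ⟨_, hxQ⟩ (mem_center_iff.2 fun y => Subtype.ext (Subtype.ext
        (mem_centralizer_iff.1 hx _ ⟨y.1, y.2, rfl⟩)))
    · rw [zpowers_le]
      exact mem_centralizer_iff.2 fun y hy => mem_centralizer_singleton_iff.1 (hle hy)
    · intro g hg
      rw [mem_normalizer_iff]
      intro y
      constructor
      · rintro ⟨w, hw, rfl⟩
        exact ⟨⟨g, hg⟩ * w * ⟨g, hg⟩⁻¹, Normal.conj_mem inferInstance w hw _, rfl⟩
      · rintro ⟨w, hw, hwe⟩
        refine ⟨⟨g, hg⟩⁻¹ * w * ⟨g, hg⟩, ?_, ?_⟩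
        · simpa using Normal.conj_mem inferInstance w hw (⟨g, hg⟩⁻¹ : ↥(centralizer ({z} : Set G)))
        · simp only [Subgroup.coe_subtype, Subgroup.coe_mul, Subgroup.coe_inv] at hwe ⊢
          rw [hwe]; group
  refine ⟨⟨Q', hctr, by rw [← Nat.card_congr eq.toEquiv, hcard], ?_,
    e.toMonoidHom.comp (QuotientGroup.mk' Q), e.surjective.comp (QuotientGroup.mk'_surjective Q), fun c => ?_⟩⟩
  · intro hr
    obtain ⟨E, ⟨hE1, hE2⟩, hE4⟩ := hplus
    have hcE : IsMulCommutative (E.map eq.toMonoidHom) := ⟨⟨by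
      rintro ⟨_, a, ha, rfl⟩ ⟨_, b, hb, rfl⟩
      refine Subtype.ext ?_
      show eq a * eq b = eq b * eq a
      rw [← map_mul, ← map_mul]
      exact congrArg eq (congrArg Subtype.val (hE1.is_comm.comm ⟨a, ha⟩ ⟨b, hb⟩))⟩⟩
    have := hr (E.map eq.toMonoidHom) hcE (by
      rintro _ ⟨a, ha, rfl⟩
      show eq a ^ 2 = 1
      rw [← map_pow, hE2 a ha, map_one])
    rw [card_map_of_injective eq.injective, hE4] at this
    norm_num at this
  · show e (QuotientGroup.mk c) = 1 ↔ _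
    rw [EmbeddingLike.map_eq_one_iff, QuotientGroup.eq_one_iff]
    exact ⟨fun h => ⟨c, h, rfl⟩, fun ⟨w, hw, hwe⟩ => by
      rw [Subtype.ext (a1 := c) (a2 := w) hwe.symm]; exact hw⟩

end Cfsg.Agent.HeLocal.Cz
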